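import Mathlib

/-!
# Certificates in permutation modules: codes of permutations and bit masks (helper517)

Used for S4100 (`p = 2`): every nonzero `F₂A₉`-module has a nonzero vector with nonsolvable stabilizer.
-/

set_option autoImplicit false

namespace Cfsg.Agent.H517.AltMod

/-! ### codes of permutations of nine points -/

/-- the `a`-th hexadecimal digit -/
def dig (c a : ℕ) : ℕ := (c >>> (4 * a)) % 16

/-- composition of codes -/
def comp (x c : ℕ) : ℕ :=
  dig x (dig c 0) + 16 * (dig x (dig c 1) + 16 * (dig x (dig c 2) + 16 * (dig x (dig c 3) + 16 * (dig x (dig c 4) + 16 *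
   (dig x (dig c 5) + 16 * (dig x (dig c 6) + 16 * (dig x (dig c 7) + 16 * dig x (dig c 8))))))))

/-- the code of a permutation -/
def code (g : Equiv.Perm (Fin 9)) : ℕ :=
  (g 0).val + 16 * ((g 1).val + 16 * ((g 2).val + 16 * ((g 3).val + 16 * ((g 4).val + 16 *
   ((g 5).val + 16 * ((g 6).val + 16 * ((g 7).val + 16 * (g 8).val)))))))

theorem dig_code (g : Equiv.Perm (Fin 9)) (a : Fin 9) : dig (code g) a.val = (g a).val := by
  have h0 := (g 0).isLt
  have h1 := (g 1).isLt
  have h2 := (g 2).isLt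
  have h3 := (g 3).isLt
  have h4 := (g 4).isLt
  have h5 := (g 5).isLt
  have h6 := (g 6).isLt
  have h7 := (g 7).isLt
  have h8 := (g 8).isLt
  unfold dig code
  rw [Nat.shiftRight_eq_div_pow]
  fin_cases a <;> simp only [Fin.zero_eta, Fin.mk_one, Fin.reduceFinMk, Fin.isValue] <;>
    norm_num [Fin.val] <;> omega

theorem comp_code (g h : Equiv.Perm (Fin 9)) : comp (code g) (code h) = code (g * h) := by
  have h0 : dig (code h) 0 = (h 0).val := dig_code h 0
  have h1 : dig (code h) 1 = (h 1).val := dig_code h 1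
  have h2 : dig (code h) 2 = (h 2).val := dig_code h 2
  have h3 : dig (code h) 3 = (h 3).val := dig_code h 3
  have h4 : dig (code h) 4 = (h 4).val := dig_code h 4
  have h5 : dig (code h) 5 = (h 5).val := dig_code h 5
  have h6 : dig (code h) 6 = (h 6).val := dig_code h 6
  have h7 : dig (code h) 7 = (h 7).val := dig_code h 7
  have h8 : dig (code h) 8 = (h 8).val := dig_code h 8
  unfold comp
  rw [h0, h1, h2, h3, h4, h5, h6, h7, h8]
  simp only [dig_code]
  rfl

theorem code_injective : Function.Injective code := by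
  intro g h hgh
  ext a
  rw [← dig_code, ← dig_code, hgh]

/-! ### loops -/

/-- `p i` for all `i < m` -/
def allB (p : ℕ → Bool) : ℕ → Bool
  | 0 => true
  | m + 1 => p m && allB p m

theorem of_allB {p : ℕ → Bool} {m : ℕ} (h : allB p m = true) {i : ℕ} (hi : i < m) : p i = true := by
  induction m with
  | zero => omega
  | succ m ih =>
    rw [allB, Bool.and_eq_true] at h
    rcases Nat.lt_succ_iff_lt_or_eq.1 hi with h1 | rfl
    · exact ih h.2 h1
    · exact h.1

/-- the sum of `t i`, `i < m`, with respect to exclusive or -/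
def xs (t : ℕ → ℕ) : ℕ → ℕ
  | 0 => 0
  | m + 1 => xs t m ^^^ t m

/-- the `i`-th digit of width `w` -/
def at' (w T i : ℕ) : ℕ := (T >>> (w * i)) % 2 ^ w

theorem at'_lt (w T i : ℕ) : at' w T i < 2 ^ w := Nat.mod_lt _ (by positivity)

/-! ### formal sums -/

variable {V : Type*} [AddCommGroup V]

/-- the vector belonging to a bit mask -/
def F (f : ℕ → V) (M : ℕ) : V := ∑ i ∈ Finset.range 4096, if M.testBit i then f i else 0

theorem F_zero (f : ℕ → V) : F f 0 = 0 := by simp [F]

theorem F_xor (h2 : ∀ v : V, v + v = 0) (f : ℕ → V) (a b : ℕ) : F f (a ^^^ b) = F f a + F f b := by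
  unfold F
  rw [← Finset.sum_add_distrib]
  refine Finset.sum_congr rfl fun i _ => ?_
  rw [Nat.testBit_xor]
  cases a.testBit i <;> cases b.testBit i <;> simp [h2]

theorem F_shift (f : ℕ → V) {b j : ℕ} (hb : b < 2) (hj : j < 4096) : F f (b <<< j) = if b = 1 then f j else 0 := by
  unfold F
  have h0 : b = 0 ∨ b = 1 := by omega
  rcases h0 with rfl | rfl
  · simp
  · rw [Finset.sum_eq_single j]
    · simp
    · intro i _ hij
      rw [Nat.one_shiftLeft, Nat.testBit_two_pow]
      simp [Ne.symm hij]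
    · intro h
      exact absurd (Finset.mem_range.2 hj) h

theorem F_xs (h2 : ∀ v : V, v + v = 0) (f : ℕ → V) (t : ℕ → ℕ) (m : ℕ) :
    F f (xs t m) = ∑ i ∈ Finset.range m, F f (t i) := by
  induction m with
  | zero => simp [xs, F_zero]
  | succ m ih => rw [xs, F_xor h2, ih, Finset.sum_range_succ]

theorem shiftRight_mod_two (M i : ℕ) : (M >>> i) % 2 = if M.testBit i then 1 else 0 := by
  rw [Nat.testBit_eq_decide_div_mod_eq, Nat.shiftRight_eq_div_pow]
  rcases Nat.mod_two_eq_zero_or_one (M / 2 ^ i) with h | h <;> simp [h]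

/-- a vector supported on `i < n` -/
theorem F_eq (f : ℕ → V) {n : ℕ} (hn : n ≤ 4096) (hf : ∀ i, n ≤ i → f i = 0) (M : ℕ) :
    F f M = ∑ i ∈ Finset.range n, if M.testBit i then f i else 0 := by
  unfold F
  symm
  apply Finset.sum_subset
  · intro i hi
    rw [Finset.mem_range] at hi ⊢
    omega
  · intro i _ hi
    rw [Finset.mem_range] at hi
    rw [hf i (by omega)]
    simp

/-- permuting a mask -/
def pm (n T M : ℕ) : ℕ := xs (fun i => ((M >>> i) % 2) <<< at' 12 T i) n

/-- the mask of a set of labels -/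
def mk (n L sel : ℕ) : ℕ := xs (fun i => ((sel >>> at' 8 L i) % 2) <<< i) n

theorem F_pm (h2 : ∀ v : V, v + v = 0) (f : ℕ → V) {n : ℕ} (hn : n ≤ 4096) (hf : ∀ i, n ≤ i → f i = 0) (T M : ℕ)
    (φ : V →+ V) (hφ : ∀ i < n, f (at' 12 T i) = φ (f i)) : F f (pm n T M) = φ (F f M) := by
  rw [pm, F_xs h2, F_eq f hn hf, map_sum]
  refine Finset.sum_congr rfl fun i hi => ?_
  rw [F_shift f (Nat.mod_lt _ (by norm_num)) (at'_lt 12 T i), shiftRight_mod_two]
  cases M.testBit i <;> simp [hφ i (Finset.mem_range.1 hi)]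

theorem F_mk (h2 : ∀ v : V, v + v = 0) (f : ℕ → V) {n : ℕ} (hn : n ≤ 4096) (L sel : ℕ) :
    F f (mk n L sel) = ∑ i ∈ Finset.range n, if sel.testBit (at' 8 L i) then f i else 0 := by
  rw [mk, F_xs h2]
  refine Finset.sum_congr rfl fun i hi => ?_
  rw [F_shift f (Nat.mod_lt _ (by norm_num)) (by have := Finset.mem_range.1 hi; omega), shiftRight_mod_two]
  cases sel.testBit (at' 8 L i) <;> simp

/-- surjectivity of a table -/
theorem surj_of {n : ℕ} (hn : n ≤ 4096) {T : ℕ} (h : xs (fun i => 1 <<< at' 12 T i) n = 2 ^ n - 1) {j : ℕ} (hj : j < n) :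
    ∃ i < n, at' 12 T i = j := by
  by_contra hc
  push Not at hc
  have h2 : ∀ v : ZMod 2, v + v = 0 := by decide
  have h3 := F_xs h2 (fun i => if i = j then 1 else 0) (fun i => 1 <<< at' 12 T i) n
  rw [h, Finset.sum_eq_zero] at h3
  · unfold F at h3
    rw [Finset.sum_eq_single j] at h3
    · rw [Nat.testBit_two_pow_sub_one] at h3
      simp [hj] at h3
    · intro i _ hij
      simp [hij]
    · intro h4
      exact absurd (Finset.mem_range.2 (by omega)) h4
  · intro i hi
    rw [F_shift _ (by norm_num) (at'_lt 12 T i)]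
    simp [hc i (Finset.mem_range.1 hi)]

/-- the vector of an invariant set of labels is fixed -/
theorem fixed_of (f : ℕ → V) {n : ℕ} {T L sel : ℕ} (hn : n ≤ 4096) (hlt : ∀ i < n, at' 12 T i < n)
    (hs : xs (fun i => 1 <<< at' 12 T i) n = 2 ^ n - 1) (hL : ∀ i < n, at' 8 L (at' 12 T i) = at' 8 L i)
    (φ : V →+ V) (hφ : ∀ i < n, f (at' 12 T i) = φ (f i)) :
    φ (∑ i ∈ Finset.range n, if sel.testBit (at' 8 L i) then f i else 0) =
      ∑ i ∈ Finset.range n, if sel.testBit (at' 8 L i) then f i else 0 := by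
  rw [map_sum]
  let π : Fin n → Fin n := fun i => ⟨at' 12 T i, hlt i i.2⟩
  have hπ : Function.Surjective π := by
    intro j
    obtain ⟨i, hi, hij⟩ := surj_of hn hs j.2
    exact ⟨⟨i, hi⟩, Fin.ext hij⟩
  have hb : Function.Bijective π := ⟨Finite.injective_iff_surjective.2 hπ, hπ⟩
  rw [Finset.sum_range, Finset.sum_range]
  symm
  rw [← (Equiv.ofBijective π hb).sum_comp]
  refine Finset.sum_congr rfl fun i _ => ?_
  change (if sel.testBit (at' 8 L (at' 12 T i)) then f (at' 12 T i) else 0) = _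
  rw [hL i i.2, hφ i i.2]
  cases sel.testBit (at' 8 L i) <;> simp

end Cfsg.Agent.H517.AltMod
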