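import Cfsg.Agent.H517.AltMod.Data

set_option autoImplicit false

namespace Cfsg.Agent.H517.AltMod

theorem hX0 : chkX 0 = true := by decide +kernel

theorem hS0 : chkS 0 = true := by decide +kernel

theorem hX1 : chkX 1 = true := by decide +kernel

theorem hS1 : chkS 1 = true := by decide +kernel

theorem hX2 : chkX 2 = true := by decide +kernel

theorem hS2 : chkS 2 = true := by decide +kernel

theorem hX3 : chkX 3 = true := by decide +kernel

theorem hS3 : chkS 3 = true := by decide +kernel

theorem hL0_0 : chkL 0 0 = true := by decide +kernel

theorem hL0_2 : chkL 0 2 = true := by decide +kernel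

theorem hL1_0 : chkL 1 0 = true := by decide +kernel

theorem hL1_3 : chkL 1 3 = true := by decide +kernel

theorem hL2_1 : chkL 2 1 = true := by decide +kernel

theorem hL3_1 : chkL 3 1 = true := by decide +kernel

theorem hL4_1 : chkL 4 1 = true := by decide +kernel

theorem hL5_1 : chkL 5 1 = true := by decide +kernel

end Cfsg.Agent.H517.AltMod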