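import Cfsg.Agent.H517.AltMod.Data

set_option autoImplicit false

namespace Cfsg.Agent.H517.AltMod

theorem hX4 : chkX 4 = true := by decide +kernel

theorem hS4 : chkS 4 = true := by decide +kernel

theorem hX5 : chkX 5 = true := by decide +kernel

theorem hS5 : chkS 5 = true := by decide +kernel

theorem hX6 : chkX 6 = true := by decide +kernel

theorem hS6 : chkS 6 = true := by decide +kernel

theorem hX7 : chkX 7 = true := by decide +kernel

theorem hS7 : chkS 7 = true := by decide +kernel

theorem hL2_4 : chkL 2 4 = true := by decide +kernel

theorem hL3_5 : chkL 3 5 = true := by decide +kernel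

theorem hL4_6 : chkL 4 6 = true := by decide +kernel

theorem hL5_7 : chkL 5 7 = true := by decide +kernel

end Cfsg.Agent.H517.AltMod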