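import Cfsg.Agent.H517.NSC

/-!
# Certificates in monomial modules over the field with five elements (helper517)

Used for S4100 (`p = 5`): every nonzero `F₅A₁₀`-module has a nonzero vector with nonsolvable stabilizer.

`Inst`: a table of a monomial module (coset representatives, a stabilizer with a character with values `±1`, and the action of
some elements, the letters).  `exec`: a program which derives relations between the images of a vector.
-/

set_option autoImplicit false

namespace Cfsg.Agent.H517.AltMod.Five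

open Subgroup

/-! ### codes of permutations of ten points -/

/-- the `i`-th digit of width `w` -/
def at' (w T i : ℕ) : ℕ := (T >>> (w * i)) % 2 ^ w

/-- the `a`-th hexadecimal digit -/
def dig (c a : ℕ) : ℕ := (c >>> (4 * a)) % 16

/-- composition of codes -/
def comp (x c : ℕ) : ℕ :=
  dig x (dig c 0) + 16 * (dig x (dig c 1) + 16 * (dig x (dig c 2) + 16 * (dig x (dig c 3) + 16 * (dig x (dig c 4) + 16 *
   (dig x (dig c 5) + 16 * (dig x (dig c 6) + 16 * (dig x (dig c 7) + 16 * (dig x (dig c 8) + 16 * dig x (dig c 9)))))))))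

/-- the code of a permutation -/
def code (g : Equiv.Perm (Fin 10)) : ℕ :=
  (g 0).val + 16 * ((g 1).val + 16 * ((g 2).val + 16 * ((g 3).val + 16 * ((g 4).val + 16 *
   ((g 5).val + 16 * ((g 6).val + 16 * ((g 7).val + 16 * ((g 8).val + 16 * (g 9).val))))))))

theorem dig_code (g : Equiv.Perm (Fin 10)) (a : Fin 10) : dig (code g) a.val = (g a).val := by
  have h0 := (g 0).isLt
  have h1 := (g 1).isLt
  have h2 := (g 2).isLt
  have h3 := (g 3).isLt
  have h4 := (g 4).isLt
  have h5 := (g 5).isLt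
  have h6 := (g 6).isLt
  have h7 := (g 7).isLt
  have h8 := (g 8).isLt
  have h9 := (g 9).isLt
  unfold dig code
  rw [Nat.shiftRight_eq_div_pow]
  fin_cases a <;> simp only [Fin.zero_eta, Fin.mk_one, Fin.reduceFinMk, Fin.isValue] <;>
    norm_num [Fin.val] <;> omega

theorem comp_code (g h : Equiv.Perm (Fin 10)) : comp (code g) (code h) = code (g * h) := by
  have h0 : dig (code h) 0 = (h 0).val := dig_code h 0
  have h1 : dig (code h) 1 = (h 1).val := dig_code h 1
  have h2 : dig (code h) 2 = (h 2).val := dig_code h 2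
  have h3 : dig (code h) 3 = (h 3).val := dig_code h 3
  have h4 : dig (code h) 4 = (h 4).val := dig_code h 4
  have h5 : dig (code h) 5 = (h 5).val := dig_code h 5
  have h6 : dig (code h) 6 = (h 6).val := dig_code h 6
  have h7 : dig (code h) 7 = (h 7).val := dig_code h 7
  have h8 : dig (code h) 8 = (h 8).val := dig_code h 8
  have h9 : dig (code h) 9 = (h 9).val := dig_code h 9
  unfold comp
  rw [h0, h1, h2, h3, h4, h5, h6, h7, h8, h9]
  simp only [dig_code]
  rfl

theorem code_injective : Function.Injective code := by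
  intro g h hgh
  ext a
  rw [← dig_code, ← dig_code, hgh]

/-- the alternating group of degree 10 -/
abbrev A10 : Type := alternatingGroup (Fin 10)

/-- the code of an element of `A₁₀` -/
def cd (g : A10) : ℕ := code g.1

theorem cd_injective : Function.Injective cd := fun _ _ hgh => Subtype.ext (code_injective hgh)

theorem comp_cd (g h : A10) : comp (cd g) (cd h) = cd (g * h) := comp_code _ _

/-! ### loops -/

/-- `p i` for all `i < m` -/
def allB (p : ℕ → Bool) : ℕ → Bool
  | 0 => true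
  | m + 1 => p m && allB p m

theorem of_allB {p : ℕ → Bool} {m : ℕ} (h : allB p m = true) {i : ℕ} (hi : i < m) : p i = true := by
  induction m with
  | zero => omega
  | succ m ih =>
    rw [allB, Bool.and_eq_true] at h
    rcases Nat.lt_succ_iff_lt_or_eq.1 hi with h1 | rfl
    · exact ih h.2 h1
    · exact h.1

/-- sums -/
def sumN (t : ℕ → ℕ) : ℕ → ℕ
  | 0 => 0
  | m + 1 => sumN t m + t m

theorem sumN_eq (t : ℕ → ℕ) (m : ℕ) : sumN t m = ∑ i ∈ Finset.range m, t i := by
  induction m with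
  | zero => rfl
  | succ m ih => rw [sumN, ih, Finset.sum_range_succ]

/-- a digit of a packed vector -/
def dg (c i : ℕ) : ℕ := (c >>> (3 * i)) % 8

/-- packed vectors modulo 5 -/
def mkv (t : ℕ → ℕ) : ℕ → ℕ
  | 0 => 0
  | m + 1 => mkv t m + (t m % 5) <<< (3 * m)

theorem mkv_lt (t : ℕ → ℕ) (m : ℕ) : mkv t m < 8 ^ m := by
  induction m with
  | zero => simp [mkv]
  | succ m ih =>
    rw [mkv, Nat.shiftLeft_eq, pow_mul, show 2 ^ 3 = 8 from rfl, pow_succ]
    have h1 : t m % 5 < 5 := Nat.mod_lt _ (by norm_num)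
    have h2 : t m % 5 * 8 ^ m ≤ 4 * 8 ^ m := Nat.mul_le_mul_right _ (by omega)
    omega

theorem dg_mkv (t : ℕ → ℕ) {m i : ℕ} (hi : i < m) : dg (mkv t m) i = t i % 5 := by
  induction m with
  | zero => omega
  | succ m ih =>
    rw [dg, Nat.shiftRight_eq_div_pow, pow_mul, show 2 ^ 3 = 8 from rfl, mkv, Nat.shiftLeft_eq, pow_mul,
      show 2 ^ 3 = 8 from rfl]
    rcases Nat.lt_succ_iff_lt_or_eq.1 hi with h1 | rfl
    · have h2 := ih h1
      rw [dg, Nat.shiftRight_eq_div_pow, pow_mul, show 2 ^ 3 = 8 from rfl] at h2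
      rw [← h2]
      obtain ⟨d, rfl⟩ : ∃ d, m = i + 1 + d := ⟨m - (i + 1), by omega⟩
      have h3 : t (i + 1 + d) % 5 * 8 ^ (i + 1 + d) = 8 ^ i * (8 * (t (i + 1 + d) % 5 * 8 ^ d)) := by ring
      rw [h3, Nat.add_mul_div_left _ _ (by positivity), Nat.add_mul_mod_self_left]
    · have h2 := mkv_lt t i
      rw [mul_comm (t i % 5), Nat.add_mul_div_left _ _ (by positivity), Nat.div_eq_of_lt h2, zero_add]
      have h1 : t i % 5 < 5 := Nat.mod_lt _ (by norm_num)
      omega

/-! ### formal sums -/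

variable {V : Type*} [AddCommGroup V]

/-- the vector belonging to a packed vector of coefficients -/
def F (n : ℕ) (f : ℕ → V) (c : ℕ) : V := ∑ i ∈ Finset.range n, dg c i • f i

theorem mod_smul (h5 : ∀ v : V, (5 : ℕ) • v = 0) (a : ℕ) (v : V) : (a % 5) • v = a • v := by
  conv_rhs => rw [← Nat.mod_add_div a 5, add_smul, mul_comm, mul_smul, h5, smul_zero, add_zero]

theorem F_zero (n : ℕ) (f : ℕ → V) : F n f 0 = 0 := by simp [F, dg]

theorem F_mkv (h5 : ∀ v : V, (5 : ℕ) • v = 0) (n : ℕ) (f : ℕ → V) (t : ℕ → ℕ) :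
    F n f (mkv t n) = ∑ i ∈ Finset.range n, t i • f i := by
  unfold F
  refine Finset.sum_congr rfl fun i hi => ?_
  rw [dg_mkv t (Finset.mem_range.1 hi), mod_smul h5]

/-- index of the image in a table -/
def tj (T i : ℕ) : ℕ := (T >>> (12 * i)) % 256

/-- sign of the image in a table -/
def ts (T i : ℕ) : ℕ := (T >>> (12 * i + 8)) % 8

/-- the action of a letter on packed vectors -/
def ap (n T b c : ℕ) : ℕ := mkv (fun j => sumN (fun i => bif Nat.beq (tj T (b + i)) j then dg c i * ts T (b + i) else 0) n) n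

theorem F_ap (h5 : ∀ v : V, (5 : ℕ) • v = 0) {n : ℕ} (f : ℕ → V) {T b : ℕ} (φ : V →+ V)
    (h : ∀ i < n, tj T (b + i) < n ∧ φ (f i) = ts T (b + i) • f (tj T (b + i))) (c : ℕ) :
    F n f (ap n T b c) = φ (F n f c) := by
  rw [ap, F_mkv h5, F, map_sum]
  simp only [sumN_eq, Finset.sum_smul]
  rw [Finset.sum_comm]
  refine Finset.sum_congr rfl fun i hi => ?_
  obtain ⟨h1, h2⟩ := h i (Finset.mem_range.1 hi)
  rw [Finset.sum_eq_single (tj T (b + i))]
  · rw [map_nsmul, h2, Nat.beq_refl, cond_true, mul_smul]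
  · intro j _ hj
    have h3 : Nat.beq (tj T (b + i)) j = false := by
      rw [Bool.eq_false_iff]
      intro h4
      exact hj (Nat.eq_of_beq_eq_true h4).symm
    rw [h3, cond_false, zero_smul]
  · intro h4
    exact absurd (Finset.mem_range.2 h1) h4

/-- linear combinations -/
def lc (n : ℕ) (l : List (ℕ × ℕ)) : ℕ := mkv (fun j => (l.map fun p => p.1 * dg p.2 j).sum) n

theorem F_lc (h5 : ∀ v : V, (5 : ℕ) • v = 0) (n : ℕ) (f : ℕ → V) (l : List (ℕ × ℕ)) :
    F n f (lc n l) = (l.map fun p => p.1 • F n f p.2).sum := by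
  rw [lc, F_mkv h5]
  induction l with
  | nil => simp
  | cons p l ih =>
    simp only [List.map_cons, List.sum_cons, add_smul]
    rw [Finset.sum_add_distrib, ih, F, Finset.smul_sum]
    congr 1
    refine Finset.sum_congr rfl fun i _ => ?_
    rw [mul_smul]

/-! ### tables -/

/-- a table of a monomial module -/
structure Inst where
  /-- number of cosets -/
  n : ℕ
  /-- number of letters -/
  m : ℕ
  /-- order of the stabilizer -/
  hn : ℕ
  /-- codes of the letters -/
  X : ℕ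
  /-- codes of the representatives -/
  R : ℕ
  /-- parents of the representatives -/
  PR : ℕ
  /-- codes of the stabilizer -/
  H : ℕ
  /-- parents in the stabilizer -/
  PH : ℕ
  /-- signs in the stabilizer -/
  SH : ℕ
  /-- signs of the letters in the stabilizer -/
  SL : ℕ
  /-- the table -/
  T : ℕ
  /-- the corrections -/
  W : ℕ

namespace Inst

variable (I : Inst)

def chkR : Bool := allB (fun i => Nat.beq i 0 || (Nat.blt (at' 16 I.PR i % 256) i && (Nat.blt (at' 16 I.PR i / 256) I.m &&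
  Nat.beq (comp (at' 40 I.X (at' 16 I.PR i / 256)) (at' 40 I.R (at' 16 I.PR i % 256))) (at' 40 I.R i)))) I.n

def chkH : Bool := allB (fun i => Nat.beq i 0 || (Nat.blt (at' 16 I.PH i % 256) i && (Nat.blt (at' 16 I.PH i / 256) I.m &&
  (Nat.beq (comp (at' 40 I.X (at' 16 I.PH i / 256)) (at' 40 I.H (at' 16 I.PH i % 256))) (at' 40 I.H i) &&
   (Nat.blt 0 (at' 3 I.SL (at' 16 I.PH i / 256)) &&
    Nat.beq ((at' 3 I.SL (at' 16 I.PH i / 256) * at' 3 I.SH (at' 16 I.PH i % 256)) % 5) (at' 3 I.SH i)))))) I.hn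

def chkT : Bool := allB (fun k => allB (fun i => Nat.blt (tj I.T (k * I.n + i)) I.n && (Nat.blt (at' 8 I.W (k * I.n + i)) I.hn &&
  (Nat.beq (comp (at' 40 I.X k) (at' 40 I.R i)) (comp (at' 40 I.R (tj I.T (k * I.n + i))) (at' 40 I.H (at' 8 I.W (k * I.n + i)))) &&
   Nat.beq (ts I.T (k * I.n + i)) (at' 3 I.SH (at' 8 I.W (k * I.n + i)))))) I.n) I.m

def chk0 : Bool := Nat.beq (at' 40 I.R 0) 0x9876543210 && (Nat.beq (at' 40 I.H 0) 0x9876543210 && (Nat.beq (at' 3 I.SH 0) 1 &&
  (Nat.blt 0 I.n && Nat.blt 0 I.hn)))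

def chk : Bool := I.chk0 && (I.chkR && (I.chkH && I.chkT))

end Inst

theorem cd_one : cd 1 = 0x9876543210 := by decide +kernel

theorem blt_iff {a b : ℕ} : Nat.blt a b = true ↔ a < b := by simp [Nat.blt]

variable [DistribMulAction A10 V]

/-- The table of a vector on which the stabilizer acts by the character. -/
theorem Inst.spec (I : Inst) (hI : I.chk = true) (h5 : ∀ v : V, (5 : ℕ) • v = 0) (x : ℕ → A10)
    (hx : ∀ k < I.m, cd (x k) = at' 40 I.X k) (v : V)
    (hv : ∀ k < I.m, 0 < at' 3 I.SL k → x k • v = at' 3 I.SL k • v) :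
    ∃ f : ℕ → V, f 0 = v ∧ (∀ i < I.n, 0 < i → ∃ j < i, f i = x (at' 16 I.PR i / 256) • f j) ∧
      (∀ k < I.m, ∀ i < I.n, tj I.T (k * I.n + i) < I.n ∧
        x k • f i = ts I.T (k * I.n + i) • f (tj I.T (k * I.n + i))) ∧ 0 < I.n := by
  rw [chk, Bool.and_eq_true, Bool.and_eq_true, Bool.and_eq_true, chk0, Bool.and_eq_true, Bool.and_eq_true,
    Bool.and_eq_true, Bool.and_eq_true] at hI
  obtain ⟨⟨c1, c2, c3, c4, c5⟩, hR, hH, hT⟩ := hI
  -- representatives
  have hr : ∀ i < I.n, ∃ r : A10, cd r = at' 40 I.R i := by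
    intro i
    induction i using Nat.strong_induction_on with
    | _ i ih =>
      intro hi
      have h := of_allB (p := fun i => Nat.beq i 0 || (Nat.blt (at' 16 I.PR i % 256) i && (Nat.blt (at' 16 I.PR i / 256) I.m &&
        Nat.beq (comp (at' 40 I.X (at' 16 I.PR i / 256)) (at' 40 I.R (at' 16 I.PR i % 256))) (at' 40 I.R i)))) hR hi
      simp only [Bool.or_eq_true, Bool.and_eq_true, blt_iff] at h
      rcases h with h | ⟨h1, h2, h3⟩
      · have h0 : i = 0 := Nat.eq_of_beq_eq_true h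
        subst h0
        exact ⟨1, cd_one.trans (Nat.eq_of_beq_eq_true c1).symm⟩
      · obtain ⟨r, hr⟩ := ih _ h1 (by omega)
        refine ⟨x (at' 16 I.PR i / 256) * r, ?_⟩
        rw [← comp_cd, hr, hx _ h2]
        exact Nat.eq_of_beq_eq_true h3
  choose! r hr using hr
  have hr0 : r 0 = 1 := cd_injective ((hr 0 (blt_iff.1 c4)).trans ((Nat.eq_of_beq_eq_true c1).trans cd_one.symm))
  -- stabilizer
  have hh : ∀ w < I.hn, ∃ g : A10, cd g = at' 40 I.H w ∧ g • v = at' 3 I.SH w • v := by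
    intro w
    induction w using Nat.strong_induction_on with
    | _ w ih =>
      intro hw
      have h := of_allB (p := fun i => Nat.beq i 0 || (Nat.blt (at' 16 I.PH i % 256) i && (Nat.blt (at' 16 I.PH i / 256) I.m &&
        (Nat.beq (comp (at' 40 I.X (at' 16 I.PH i / 256)) (at' 40 I.H (at' 16 I.PH i % 256))) (at' 40 I.H i) &&
         (Nat.blt 0 (at' 3 I.SL (at' 16 I.PH i / 256)) &&
          Nat.beq ((at' 3 I.SL (at' 16 I.PH i / 256) * at' 3 I.SH (at' 16 I.PH i % 256)) % 5) (at' 3 I.SH i)))))) hH hw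
      simp only [Bool.or_eq_true, Bool.and_eq_true, blt_iff] at h
      rcases h with h | ⟨h1, h2, h3, h4, h6⟩
      · have h0 : w = 0 := Nat.eq_of_beq_eq_true h
        subst h0
        refine ⟨1, cd_one.trans (Nat.eq_of_beq_eq_true c2).symm, ?_⟩
        rw [Nat.eq_of_beq_eq_true c3, one_smul, one_smul]
      · obtain ⟨g, hg, hgv⟩ := ih _ h1 (by omega)
        refine ⟨x (at' 16 I.PH w / 256) * g, ?_, ?_⟩
        · rw [← comp_cd, hg, hx _ h2]
          exact Nat.eq_of_beq_eq_true h3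
        · rw [mul_smul, hgv, smul_comm, hv _ h2 h4, ← mul_smul, mul_comm, ← mod_smul h5, Nat.eq_of_beq_eq_true h6]
  obtain ⟨f, hf⟩ : ∃ f : ℕ → V, ∀ i, f i = r i • v := ⟨fun i => r i • v, fun _ => rfl⟩
  refine ⟨f, by rw [hf, hr0, one_smul], ?_, ?_, blt_iff.1 c4⟩
  · intro i hi hi0
    have h := of_allB (p := fun i => Nat.beq i 0 || (Nat.blt (at' 16 I.PR i % 256) i && (Nat.blt (at' 16 I.PR i / 256) I.m &&
        Nat.beq (comp (at' 40 I.X (at' 16 I.PR i / 256)) (at' 40 I.R (at' 16 I.PR i % 256))) (at' 40 I.R i)))) hR hi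
    simp only [Bool.or_eq_true, Bool.and_eq_true, blt_iff] at h
    rcases h with h | ⟨h1, h2, h3⟩
    · exact absurd (Nat.eq_of_beq_eq_true h) (by omega)
    · refine ⟨at' 16 I.PR i % 256, h1, ?_⟩
      have h6 : r i = x (at' 16 I.PR i / 256) * r (at' 16 I.PR i % 256) := by
        apply cd_injective
        rw [hr i hi, ← comp_cd, hx _ h2, hr _ (h1.trans hi)]
        exact (Nat.eq_of_beq_eq_true h3).symm
      rw [hf, hf, ← mul_smul, ← h6]
  · intro k hk i hi
    have h' := of_allB (p := fun k => allB (fun i => Nat.blt (tj I.T (k * I.n + i)) I.n && (Nat.blt (at' 8 I.W (k * I.n + i)) I.hn &&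
      (Nat.beq (comp (at' 40 I.X k) (at' 40 I.R i)) (comp (at' 40 I.R (tj I.T (k * I.n + i))) (at' 40 I.H (at' 8 I.W (k * I.n + i)))) &&
       Nat.beq (ts I.T (k * I.n + i)) (at' 3 I.SH (at' 8 I.W (k * I.n + i)))))) I.n) hT hk
    have h := of_allB (p := fun i => Nat.blt (tj I.T (k * I.n + i)) I.n && (Nat.blt (at' 8 I.W (k * I.n + i)) I.hn &&
      (Nat.beq (comp (at' 40 I.X k) (at' 40 I.R i)) (comp (at' 40 I.R (tj I.T (k * I.n + i))) (at' 40 I.H (at' 8 I.W (k * I.n + i)))) &&
       Nat.beq (ts I.T (k * I.n + i)) (at' 3 I.SH (at' 8 I.W (k * I.n + i)))))) h' hi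
    simp only [Bool.and_eq_true, blt_iff] at h
    obtain ⟨h1, h2, h3, h4⟩ := h
    obtain ⟨g, hg, hgv⟩ := hh _ h2
    refine ⟨h1, ?_⟩
    have h6 : x k * r i = r (tj I.T (k * I.n + i)) * g := by
      apply cd_injective
      rw [← comp_cd, ← comp_cd, hx k hk, hr i hi, hr _ h1, hg]
      exact Nat.eq_of_beq_eq_true h3
    rw [hf, hf, ← mul_smul, h6, mul_smul, hgv, Nat.eq_of_beq_eq_true h4]
    exact smul_comm _ _ _

/-! ### operators -/

/-- the action of a linear combination of letters on packed vectors -/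
def opc (n m T E c : ℕ) : ℕ :=
  mkv (fun j => sumN (fun k => bif Nat.beq (at' 3 E k) 0 then 0 else at' 3 E k *
    sumN (fun i => bif Nat.beq (tj T (k * n + i)) j then dg c i * ts T (k * n + i) else 0) n) m) n

/-- a linear combination of letters applied to a vector -/
def opv (m : ℕ) (x : ℕ → A10) (E : ℕ) (v : V) : V := ∑ k ∈ Finset.range m, at' 3 E k • x k • v

/-- the property of a table -/
def IsTab (n m T : ℕ) (x : ℕ → A10) (f : ℕ → V) : Prop :=
  ∀ k < m, ∀ i < n, tj T (k * n + i) < n ∧ x k • f i = ts T (k * n + i) • f (tj T (k * n + i))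

theorem F_ap' (h5 : ∀ v : V, (5 : ℕ) • v = 0) {n m T : ℕ} {x : ℕ → A10} {f : ℕ → V} (hf : IsTab n m T x f) {k : ℕ}
    (hk : k < m) (c : ℕ) : F n f (ap n T (k * n) c) = x k • F n f c :=
  F_ap h5 f (DistribSMul.toAddMonoidHom V (x k)) (hf k hk) c

theorem F_opc (h5 : ∀ v : V, (5 : ℕ) • v = 0) {n m T : ℕ} {x : ℕ → A10} {f : ℕ → V} (hf : IsTab n m T x f) (E c : ℕ) :
    F n f (opc n m T E c) = opv m x E (F n f c) := by
  rw [opc, F_mkv h5, opv]
  simp only [sumN_eq, Finset.sum_smul]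
  rw [Finset.sum_comm]
  refine Finset.sum_congr rfl fun k hk => ?_
  rw [← F_ap' h5 hf (Finset.mem_range.1 hk) c, ap, F_mkv h5, Finset.smul_sum]
  refine Finset.sum_congr rfl fun j _ => ?_
  cases h : Nat.beq (at' 3 E k) 0 with
  | true => rw [cond_true, zero_smul, Nat.eq_of_beq_eq_true h, zero_smul]
  | false => rw [cond_false, mul_smul, sumN_eq]

/-- a unit vector -/
def unit (i : ℕ) : ℕ := 1 <<< (3 * i)

omit [DistribMulAction A10 V] in
theorem F_unit {n : ℕ} (f : ℕ → V) {i : ℕ} (hi : i < n) : F n f (unit i) = f i := by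
  have h1 : ∀ j, dg (unit i) j = if j = i then 1 else 0 := by
    intro j
    rw [dg, unit, Nat.shiftLeft_eq, Nat.shiftRight_eq_div_pow, pow_mul, pow_mul, one_mul, show 2 ^ 3 = 8 from rfl]
    rcases lt_trichotomy i j with h | rfl | h
    · rw [if_neg (by omega), Nat.div_eq_of_lt (Nat.pow_lt_pow_right (by norm_num) h)]
    · rw [if_pos rfl, Nat.div_self (by positivity)]
    · rw [if_neg (by omega), Nat.pow_div h.le (by norm_num)]
      obtain ⟨d, hd⟩ : ∃ d, i - j = d + 1 := ⟨i - j - 1, by omega⟩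
      rw [hd, pow_succ, Nat.mul_mod_left]
  rw [F, Finset.sum_eq_single i]
  · rw [h1, if_pos rfl, one_smul]
  · intro j _ hj
    rw [h1, if_neg hj, zero_smul]
  · intro h
    exact absurd (Finset.mem_range.2 hi) h

/-! ### programs -/

/-- a step of a derivation of relations -/
inductive Stp
  /-- apply a letter -/
  | ap (k p v : ℕ)
  /-- linear combination -/
  | lc (l : List (ℕ × ℕ)) (v : ℕ)
  /-- a basic relation -/
  | op (s i v : ℕ)
  /-- a vector which is fixed modulo known relations -/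
  | fix (X c q1 q2 : ℕ)

/-- one step -/
def step (I : Inst) (EP : List ℕ) (XP : List (ℕ × ℕ)) (L : List ℕ) : Stp → List ℕ
  | .ap k p v => bif Nat.blt k I.m && Nat.beq (Five.ap I.n I.T (k * I.n) (L.getD p 0)) v then L ++ [v] else L
  | .lc l v => bif Nat.beq (Five.lc I.n (l.map fun q => (q.1, L.getD q.2 0))) v then L ++ [v] else L
  | .op s i v => bif Nat.blt s EP.length && (Nat.blt i I.n && Nat.beq (opc I.n I.m I.T (EP.getD s 0) (unit i)) v)
      then L ++ [v] else L
  | .fix X c q1 q2 => bif Nat.blt X XP.length && (Nat.blt (XP.getD X (0, 0)).1 I.m && (Nat.blt (XP.getD X (0, 0)).2 I.m &&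
      (Nat.beq (Five.lc I.n [(1, Five.ap I.n I.T ((XP.getD X (0, 0)).1 * I.n) c), (4, c)]) (L.getD q1 0) &&
       Nat.beq (Five.lc I.n [(1, Five.ap I.n I.T ((XP.getD X (0, 0)).2 * I.n) c), (4, c)]) (L.getD q2 0))))
      then L ++ [c] else L

/-- run a program -/
def exec (I : Inst) (EP : List ℕ) (XP : List (ℕ × ℕ)) (L : List ℕ) : List Stp → List ℕ
  | [] => L
  | s :: l => exec I EP XP (step I EP XP L s) l

omit [DistribMulAction A10 V] in
theorem getD_zero {f : ℕ → V} {n : ℕ} {L : List ℕ} (hL : ∀ c ∈ L, F n f c = 0) (p : ℕ) : F n f (L.getD p 0) = 0 := by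
  rcases Nat.lt_or_ge p L.length with h | h
  · rw [List.getD_eq_getElem _ _ h]
    exact hL _ (List.getElem_mem h)
  · rw [List.getD_eq_default _ _ h, F_zero]

theorem fixed_of (h5 : ∀ v : V, (5 : ℕ) • v = 0) {n m T : ℕ} {x : ℕ → A10} {f : ℕ → V} (hf : IsTab n m T x f) {k : ℕ}
    (hk : k < m) {c : ℕ} (h : F n f (lc n [(1, ap n T (k * n) c), (4, c)]) = 0) : x k • F n f c = F n f c := by
  rw [F_lc h5, List.map_cons, List.map_cons, List.map_nil, List.sum_cons, List.sum_cons, List.sum_nil, add_zero, one_smul,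
    F_ap' h5 hf hk] at h
  have h1 : (5 : ℕ) • F n f c = 0 := h5 _
  rw [show (5 : ℕ) = 4 + 1 from rfl, add_smul, one_smul] at h1
  have h2 : F n f c - x k • F n f c = ((4 : ℕ) • F n f c + F n f c) - (x k • F n f c + (4 : ℕ) • F n f c) := by abel
  rw [h1, h, sub_zero] at h2
  exact (sub_eq_zero.1 h2).symm

theorem step_zero (h5 : ∀ v : V, (5 : ℕ) • v = 0) (I : Inst) {x : ℕ → A10} {f : ℕ → V} (hf : IsTab I.n I.m I.T x f)
    {EP : List ℕ} (hE : ∀ E ∈ EP, ∀ i < I.n, opv I.m x E (f i) = 0) {XP : List (ℕ × ℕ)}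
    (hX : ∀ p ∈ XP, ¬ Group.IsSolvable (closure ({x p.1, x p.2} : Set A10)))
    (hz : ∀ v : V, ¬ Group.IsSolvable (MulAction.stabilizer A10 v) → v = 0) {L : List ℕ}
    (hL : ∀ c ∈ L, F I.n f c = 0) (s : Stp) : ∀ c ∈ step I EP XP L s, F I.n f c = 0 := by
  have key : ∀ v : ℕ, F I.n f v = 0 → ∀ c ∈ L ++ [v], F I.n f c = 0 := by
    intro v hv c hc
    rw [List.mem_append, List.mem_singleton] at hc
    rcases hc with hc | rfl
    · exact hL c hc
    · exact hv
  cases s with
  | ap k p v =>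
    rw [step]
    cases h : (Nat.blt k I.m && Nat.beq (Five.ap I.n I.T (k * I.n) (L.getD p 0)) v) with
    | false => exact hL
    | true =>
      rw [Bool.and_eq_true, blt_iff] at h
      refine key v ?_
      rw [← Nat.eq_of_beq_eq_true h.2, F_ap' h5 hf h.1, getD_zero hL, smul_zero]
  | lc l v =>
    rw [step]
    cases h : (Nat.beq (Five.lc I.n (l.map fun q => (q.1, L.getD q.2 0))) v) with
    | false => exact hL
    | true =>
      refine key v ?_
      rw [← Nat.eq_of_beq_eq_true h, F_lc h5]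
      apply List.sum_eq_zero
      intro w hw
      rw [List.map_map, List.mem_map] at hw
      obtain ⟨q, -, rfl⟩ := hw
      rw [Function.comp, getD_zero hL, smul_zero]
  | op s i v =>
    rw [step]
    cases h : (Nat.blt s EP.length && (Nat.blt i I.n && Nat.beq (opc I.n I.m I.T (EP.getD s 0) (unit i)) v)) with
    | false => exact hL
    | true =>
      rw [Bool.and_eq_true, Bool.and_eq_true, blt_iff, blt_iff] at h
      refine key v ?_
      rw [← Nat.eq_of_beq_eq_true h.2.2, F_opc h5 hf, F_unit f h.2.1]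
      refine hE _ ?_ i h.2.1
      rw [List.getD_eq_getElem _ _ h.1]
      exact List.getElem_mem h.1
  | fix X c q1 q2 =>
    rw [step]
    cases h : (Nat.blt X XP.length && (Nat.blt (XP.getD X (0, 0)).1 I.m && (Nat.blt (XP.getD X (0, 0)).2 I.m &&
      (Nat.beq (Five.lc I.n [(1, Five.ap I.n I.T ((XP.getD X (0, 0)).1 * I.n) c), (4, c)]) (L.getD q1 0) &&
       Nat.beq (Five.lc I.n [(1, Five.ap I.n I.T ((XP.getD X (0, 0)).2 * I.n) c), (4, c)]) (L.getD q2 0))))) with
    | false => exact hL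
    | true =>
      simp only [Bool.and_eq_true, blt_iff] at h
      obtain ⟨h1, h2, h3, h4, h6⟩ := h
      refine key c (hz _ fun hs => ?_)
      have hmem : XP.getD X (0, 0) ∈ XP := by
        rw [List.getD_eq_getElem _ _ h1]
        exact List.getElem_mem h1
      refine hX _ hmem (isSolvable_mono ?_ hs)
      rw [closure_le]
      rintro y (rfl | rfl)
      · refine MulAction.mem_stabilizer_iff.2 (fixed_of h5 hf h2 ?_)
        rw [Nat.eq_of_beq_eq_true h4]
        exact getD_zero hL _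
      · refine MulAction.mem_stabilizer_iff.2 (fixed_of h5 hf h3 ?_)
        rw [Nat.eq_of_beq_eq_true h6]
        exact getD_zero hL _

theorem exec_zero (h5 : ∀ v : V, (5 : ℕ) • v = 0) (I : Inst) {x : ℕ → A10} {f : ℕ → V} (hf : IsTab I.n I.m I.T x f)
    {EP : List ℕ} (hE : ∀ E ∈ EP, ∀ i < I.n, opv I.m x E (f i) = 0) {XP : List (ℕ × ℕ)}
    (hX : ∀ p ∈ XP, ¬ Group.IsSolvable (closure ({x p.1, x p.2} : Set A10)))
    (hz : ∀ v : V, ¬ Group.IsSolvable (MulAction.stabilizer A10 v) → v = 0) (l : List Stp) {L : List ℕ}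
    (hL : ∀ c ∈ L, F I.n f c = 0) : ∀ c ∈ exec I EP XP L l, F I.n f c = 0 := by
  induction l generalizing L with
  | nil => exact hL
  | cons s l ih => exact ih (step_zero h5 I hf hE hX hz hL s)

/-- the letters in use for the representatives -/
def Inst.gens (I : Inst) (l : List ℕ) : Bool := allB (fun i => Nat.beq i 0 || l.contains (at' 16 I.PR i / 256)) I.n

theorem Inst.mem_gens {I : Inst} {l : List ℕ} (h : I.gens l = true) {i : ℕ} (hi : i < I.n) (h0 : 0 < i) :
    at' 16 I.PR i / 256 ∈ l := by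
  have h1 := of_allB (p := fun i => Nat.beq i 0 || l.contains (at' 16 I.PR i / 256)) h hi
  simp only [Bool.or_eq_true] at h1
  rcases h1 with h1 | h1
  · exact absurd (Nat.eq_of_beq_eq_true h1) (by omega)
  · simpa using h1

/-- **A vector is zero if a program derives the unit vector.** -/
theorem Inst.kill (I : Inst) (hI : I.chk = true) (h5 : ∀ v : V, (5 : ℕ) • v = 0) (x : ℕ → A10)
    (hx : ∀ k < I.m, cd (x k) = at' 40 I.X k) {v : V}
    (hv : ∀ k < I.m, 0 < at' 3 I.SL k → x k • v = at' 3 I.SL k • v) {l : List ℕ} (hl : I.gens l = true) (Pw : V → Prop)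
    (hP0 : Pw v) (hP : ∀ k ∈ l, ∀ w, Pw w → Pw (x k • w)) {EP : List ℕ} (hE : ∀ E ∈ EP, ∀ w, Pw w → opv I.m x E w = 0)
    {XP : List (ℕ × ℕ)} (hX : ∀ p ∈ XP, ¬ Group.IsSolvable (closure ({x p.1, x p.2} : Set A10)))
    (hz : ∀ v : V, ¬ Group.IsSolvable (MulAction.stabilizer A10 v) → v = 0) {L0 : List ℕ}
    (hL0 : ∀ f : ℕ → V, f 0 = v → IsTab I.n I.m I.T x f → ∀ c ∈ L0, F I.n f c = 0) {pr : List Stp} {q : ℕ}
    (hr : Nat.beq ((exec I EP XP L0 pr).getD q 0) 1 = true) : v = 0 := by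
  obtain ⟨f, hf0, hpar, hf, hn⟩ := I.spec hI h5 x hx v hv
  have hPf : ∀ i < I.n, Pw (f i) := by
    intro i
    induction i using Nat.strong_induction_on with
    | _ i ih =>
      intro hi
      rcases Nat.eq_zero_or_pos i with rfl | h0
      · rw [hf0]
        exact hP0
      · obtain ⟨j, hj, h⟩ := hpar i hi h0
        rw [h]
        exact hP _ (Inst.mem_gens hl hi h0) _ (ih j hj (hj.trans hi))
  have h1 := exec_zero h5 I (x := x) (f := f) hf (fun E hE' i hi => hE E hE' _ (hPf i hi)) hX hz pr (hL0 f hf0 hf)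
  have h2 := getD_zero h1 q
  rw [Nat.eq_of_beq_eq_true hr] at h2
  have h3 := F_unit f hn
  rw [unit, mul_zero, Nat.shiftLeft_zero] at h3
  rw [← hf0, ← h3, h2]

theorem opv_sub (m : ℕ) (x : ℕ → A10) (E : ℕ) (v w : V) : opv m x E (v - w) = opv m x E v - opv m x E w := by
  simp only [opv, smul_sub, Finset.sum_sub_distrib]

theorem opv_smul {m : ℕ} {x : ℕ → A10} {g : A10} (h : ∀ k < m, x k * g = g * x k) (E : ℕ) (v : V) :
    opv m x E (g • v) = g • opv m x E v := by
  rw [opv, opv, Finset.smul_sum]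
  refine Finset.sum_congr rfl fun k hk => ?_
  rw [smul_comm g (at' 3 E k), ← mul_smul (x k) g v, h k (Finset.mem_range.1 hk), mul_smul]

end Cfsg.Agent.H517.AltMod.Five
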