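import Cfsg.Agent.H517.AltMod.FData

/-!
# Modules for `A₁₀` in characteristic five (helper517)

`five`: a nonzero `F₅A₁₀`-module has a nonzero vector whose stabilizer is not solvable.
-/

set_option autoImplicit false

namespace Cfsg.Agent.H517.AltMod.Five

open Equiv Subgroup

theorem cd_xB {k : ℕ} (hk : k < 39) : cd (xB k) = at' 40 XB k :=
  Nat.eq_of_beq_eq_true (of_allB (p := fun k => Nat.beq (cd (xB k)) (at' 40 XB k)) cxB hk)

theorem cd_xA {k : ℕ} (hk : k < 37) : cd (xA k) = at' 40 XA k :=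
  Nat.eq_of_beq_eq_true (of_allB (p := fun k => Nat.beq (cd (xA k)) (at' 40 XA k)) cxA hk)

theorem cd_xD {k : ℕ} (hk : k < 8) : cd (xD k) = at' 40 XD k :=
  Nat.eq_of_beq_eq_true (of_allB (p := fun k => Nat.beq (cd (xD k)) (at' 40 XD k)) cxD hk)

theorem comm_BA {k j : ℕ} (hk : k < 37) (hj : j < 37) : xB k * xA j = xA j * xB k := by
  apply cd_injective
  rw [← comp_cd, ← comp_cd, cd_xB (by omega), cd_xA hj]
  have h := of_allB (p := fun k => allB (fun j => Nat.beq (comp (at' 40 XB k) (at' 40 XA j)) (comp (at' 40 XA j) (at' 40 XB k))) 37)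
    comm_chk hk
  exact Nat.eq_of_beq_eq_true
    (of_allB (p := fun j => Nat.beq (comp (at' 40 XB k) (at' 40 XA j)) (comp (at' 40 XA j) (at' 40 XB k))) h hj)

/-- the two sides -/
def xx (s : Bool) : ℕ → A10 := bif s then xB else xA

theorem comm_xx {s : Bool} {k j : ℕ} (hk : k < 37) (hj : j < 37) : xx s k * xx (!s) j = xx (!s) j * xx s k := by
  cases s
  · exact (comm_BA hj hk).symm
  · exact comm_BA hk hj

theorem cd_xx {s : Bool} {k : ℕ} (hk : k < 37) : cd (xx s k) = at' 40 (bif s then XB else XA) k := by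
  cases s
  · exact cd_xA hk
  · exact cd_xB (by omega)

theorem nsX (s : Bool) : ¬ Group.IsSolvable (closure ({xx s 13, xx s 36} : Set A10)) := by
  cases s
  · exact not_isSolvable_triangle (p := 2) (q := 5) (r := 3) (by decide +kernel) (by decide +kernel) (by decide +kernel)
      (by norm_num) (by norm_num) (by norm_num) (Or.inl (by decide +kernel))
  · exact not_isSolvable_triangle (p := 2) (q := 5) (r := 3) (by decide +kernel) (by decide +kernel) (by decide +kernel)
      (by norm_num) (by norm_num) (by norm_num) (Or.inl (by decide +kernel))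

theorem nsZ : ¬ Group.IsSolvable (closure ({xB 37, xB 36} : Set A10)) :=
  not_isSolvable_triangle (p := 2) (q := 5) (r := 3) (by decide +kernel) (by decide +kernel) (by decide +kernel)
      (by norm_num) (by norm_num) (by norm_num) (Or.inl (by decide +kernel))

theorem nsD : ∀ p ∈ [((1 : ℕ), (0 : ℕ)), (3, 2), (5, 4)], ¬ Group.IsSolvable (closure ({xD p.1, xD p.2} : Set A10)) := by
  intro p hp
  simp only [List.mem_cons, List.not_mem_nil, or_false] at hp
  rcases hp with rfl | rfl | rfl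
  · exact not_isSolvable_triangle (p := 2) (q := 5) (r := 3) (by decide +kernel) (by decide +kernel) (by decide +kernel)
      (by norm_num) (by norm_num) (by norm_num) (Or.inl (by decide +kernel))
  · exact not_isSolvable_triangle (p := 2) (q := 5) (r := 3) (by decide +kernel) (by decide +kernel) (by decide +kernel)
      (by norm_num) (by norm_num) (by norm_num) (Or.inl (by decide +kernel))
  · exact not_isSolvable_triangle (p := 2) (q := 5) (r := 3) (by decide +kernel) (by decide +kernel) (by decide +kernel)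
      (by norm_num) (by norm_num) (by norm_num) (Or.inl (by decide +kernel))

section Module

variable {V : Type*} [AddCommGroup V] [DistribMulAction A10 V]

/-- An element of order 5 has a nonzero fixed vector. -/
theorem exists_fixed (h5 : ∀ v : V, (5 : ℕ) • v = 0) {c : A10} (hc : c ^ 5 = 1) (W : AddSubgroup V)
    (hW : ∀ w ∈ W, c • w ∈ W) {w : V} (hw : w ∈ W) (hne : w ≠ 0) : ∃ y ∈ W, y ≠ 0 ∧ c • y = y := by
  by_contra hcon
  push Not at hcon
  have key : ∀ y ∈ W, c • y - y = 0 → y = 0 := by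
    intro y hy h
    by_contra h1
    exact hcon y hy h1 (sub_eq_zero.1 h)
  have hs : ∀ y ∈ W, c • y - y ∈ W := fun y hy => W.sub_mem (hW y hy) hy
  obtain ⟨w1, h1⟩ : ∃ w1, w1 = c • w - w := ⟨_, rfl⟩
  obtain ⟨w2, h2⟩ : ∃ w2, w2 = c • w1 - w1 := ⟨_, rfl⟩
  obtain ⟨w3, h3⟩ : ∃ w3, w3 = c • w2 - w2 := ⟨_, rfl⟩
  obtain ⟨w4, h4⟩ : ∃ w4, w4 = c • w3 - w3 := ⟨_, rfl⟩
  have m1 : w1 ∈ W := h1 ▸ hs _ hw
  have m2 : w2 ∈ W := h2 ▸ hs _ m1
  have m3 : w3 ∈ W := h3 ▸ hs _ m2
  have m4 : w4 ∈ W := h4 ▸ hs _ m3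
  have e5 : c • w4 - w4 = 0 := by
    have hc5 : c • c • c • c • c • w = w := by
      rw [← mul_smul, ← mul_smul, ← mul_smul, ← mul_smul]
      have : c * c * c * c * c = c ^ 5 := by simp only [pow_succ, pow_zero, one_mul]
      rw [this, hc, one_smul]
    rw [h4, h3, h2, h1]
    simp only [smul_sub, hc5]
    have : w - c • c • c • c • w - (c • c • c • c • w - c • c • c • w) -
        (c • c • c • c • w - c • c • c • w - (c • c • c • w - c • c • w)) -
        (c • c • c • c • w - c • c • c • w - (c • c • c • w - c • c • w) -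
          (c • c • c • w - c • c • w - (c • c • w - c • w))) -
        (c • c • c • c • w - c • c • c • w - (c • c • c • w - c • c • w) -
            (c • c • c • w - c • c • w - (c • c • w - c • w)) -
          (c • c • c • w - c • c • w - (c • c • w - c • w) - (c • c • w - c • w - (c • w - w)))) =
        -((5 : ℕ) • (c • c • c • c • w)) + (2 : ℕ) • ((5 : ℕ) • (c • c • c • w)) - (2 : ℕ) • ((5 : ℕ) • (c • c • w)) +
          (5 : ℕ) • (c • w) := by abel
    rw [this, h5, h5, h5, h5]
    simp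
  have e4 : w4 = 0 := key _ m4 e5
  have e3 : w3 = 0 := key _ m3 (h4 ▸ e4)
  have e2 : w2 = 0 := key _ m2 (h3 ▸ e3)
  have e1' : w1 = 0 := key _ m1 (h2 ▸ e2)
  exact hne (key _ hw (h1 ▸ e1'))

/-- eigenvectors of the normalizer of a group of order 5 -/
theorem exists_eig (h5 : ∀ v : V, (5 : ℕ) • v = 0) {c h : A10} (hc : c ^ 5 = 1) (hh : h * h = 1) (hch : c * h * c = h)
    (W : AddSubgroup V) (hW : ∀ w ∈ W, c • w ∈ W) (hW' : ∀ w ∈ W, h • w ∈ W) {w : V} (hw : w ∈ W) (hne : w ≠ 0) :
    ∃ y ∈ W, y ≠ 0 ∧ c • y = y ∧ (h • y = y ∨ h • y = -y) := by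
  obtain ⟨y, hy, hy0, hcy⟩ := exists_fixed h5 hc W hW hw hne
  have h1 : c • h • y = h • y := by
    conv_rhs => rw [← hch]
    rw [mul_smul, mul_smul, hcy]
  by_cases h2 : y + h • y = 0
  · exact ⟨y, hy, hy0, hcy, Or.inr (eq_neg_of_add_eq_zero_right h2)⟩
  · refine ⟨y + h • y, W.add_mem hy (hW' y hy), h2, ?_, Or.inl ?_⟩
    · rw [smul_add, hcy, h1]
    · rw [smul_add, ← mul_smul, hh, one_smul, add_comm]

theorem c5 (s : Bool) : xx s 36 ^ 5 = 1 := by cases s <;> decide +kernel

theorem hh (s : Bool) : xx s 15 * xx s 15 = 1 := by cases s <;> decide +kernel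

theorem chc (s : Bool) : xx s 36 * xx s 15 * xx s 36 = xx s 15 := by cases s <;> decide +kernel

theorem eig (h5 : ∀ v : V, (5 : ℕ) • v = 0) (s : Bool) (W : AddSubgroup V) (hW : ∀ w ∈ W, xx s 36 • w ∈ W)
    (hW' : ∀ w ∈ W, xx s 15 • w ∈ W) {w : V} (hw : w ∈ W) (hne : w ≠ 0) :
    ∃ y ∈ W, y ≠ 0 ∧ xx s 36 • y = y ∧ (xx s 15 • y = y ∨ xx s 15 • y = -y) :=
  exists_eig h5 (c5 s) (hh s) (chc s) W hW hW' hw hne

omit [DistribMulAction A10 V] in
theorem neg_eq (h5 : ∀ v : V, (5 : ℕ) • v = 0) (v : V) : -v = (4 : ℕ) • v := by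
  have h := h5 v
  rw [show (5 : ℕ) = 4 + 1 from rfl, add_smul, one_smul] at h
  exact (eq_neg_of_add_eq_zero_left h).symm

variable (h5 : ∀ v : V, (5 : ℕ) • v = 0) (hz : ∀ v : V, ¬ Group.IsSolvable (MulAction.stabilizer A10 v) → v = 0)

include h5 hz

/-- type `(+, +)` -/
theorem L1 {v : V} (h1 : xB 36 • v = v) (h2 : xB 15 • v = v) (h3 : xA 36 • v = v) (h4 : xA 15 • v = v) : v = 0 := by
  refine iD1.kill iD1_chk h5 xD (fun k hk => cd_xD hk) (v := v) ?_ iD1_gens (fun _ => True) trivial (fun _ _ _ _ => trivial)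
    (EP := []) (by simp) (XP := [(1, 0), (3, 2), (5, 4)]) nsD hz (L0 := []) (by simp) pD1_run
  intro k hk hk0
  have hk' : k < 8 := hk
  have e0 : xD 0 = xB 36 := by decide +kernel
  have e6 : xD 6 = xB 15 := by decide +kernel
  have e2 : xD 2 = xA 36 := by decide +kernel
  have e7 : xD 7 = xA 15 := by decide +kernel
  interval_cases k
  · rw [e0, h1, show at' 3 iD1.SL 0 = 1 by decide +kernel, one_smul]
  · exact absurd hk0 (by decide +kernel)
  · rw [e2, h3, show at' 3 iD1.SL 2 = 1 by decide +kernel, one_smul]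
  · exact absurd hk0 (by decide +kernel)
  · exact absurd hk0 (by decide +kernel)
  · exact absurd hk0 (by decide +kernel)
  · rw [e6, h2, show at' 3 iD1.SL 6 = 1 by decide +kernel, one_smul]
  · rw [e7, h4, show at' 3 iD1.SL 7 = 1 by decide +kernel, one_smul]

/-- type `(-, -)` -/
theorem L2 {v : V} (h1 : xB 36 • v = v) (h2 : xB 15 • v = -v) (h3 : xA 36 • v = v) (h4 : xA 15 • v = -v) : v = 0 := by
  refine iD2.kill iD2_chk h5 xD (fun k hk => cd_xD hk) (v := v) ?_ iD2_gens (fun _ => True) trivial (fun _ _ _ _ => trivial)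
    (EP := []) (by simp) (XP := [(1, 0), (3, 2), (5, 4)]) nsD hz (L0 := []) (by simp) pD2_run
  intro k hk hk0
  have hk' : k < 8 := hk
  have e0 : xD 0 = xB 36 := by decide +kernel
  have e6 : xD 6 = xB 15 := by decide +kernel
  have e2 : xD 2 = xA 36 := by decide +kernel
  have e7 : xD 7 = xA 15 := by decide +kernel
  interval_cases k
  · rw [e0, h1, show at' 3 iD2.SL 0 = 1 by decide +kernel, one_smul]
  · exact absurd hk0 (by decide +kernel)
  · rw [e2, h3, show at' 3 iD2.SL 2 = 1 by decide +kernel, one_smul]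
  · exact absurd hk0 (by decide +kernel)
  · exact absurd hk0 (by decide +kernel)
  · exact absurd hk0 (by decide +kernel)
  · rw [e6, h2, show at' 3 iD2.SL 6 = 4 by decide +kernel, neg_eq h5]
  · rw [e7, h4, show at' 3 iD2.SL 7 = 4 by decide +kernel, neg_eq h5]


omit hz h5 in
/-- action on a table with a character -/
theorem slB6p {v : V} (h1 : xB 36 • v = v) (h2 : xB 15 • v = v) :
    ∀ k < iB6p.m, 0 < at' 3 iB6p.SL k → xB k • v = at' 3 iB6p.SL k • v := by
  intro k hk hk0
  have hk' : k < 37 := hk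
  interval_cases k
  all_goals first
    | exact absurd hk0 (by decide +kernel)
    | (rw [h1, show at' 3 iB6p.SL 36 = 1 by decide +kernel, one_smul])
    | (rw [h2, show at' 3 iB6p.SL 15 = 1 by decide +kernel, one_smul])

omit hz in
theorem slB6m {v : V} (h1 : xB 36 • v = v) (h2 : xB 15 • v = -v) :
    ∀ k < iB6m.m, 0 < at' 3 iB6m.SL k → xB k • v = at' 3 iB6m.SL k • v := by
  intro k hk hk0
  have hk' : k < 37 := hk
  interval_cases k
  all_goals first
    | exact absurd hk0 (by decide +kernel)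
    | (rw [h1, show at' 3 iB6m.SL 36 = 1 by decide +kernel, one_smul])
    | (rw [h2, show at' 3 iB6m.SL 15 = 4 by decide +kernel, neg_eq h5])

omit hz in
/-- the idempotent kills the vectors of type `-` -/
theorem L4B {v : V} (h1 : xB 36 • v = v) (h2 : xB 15 • v = -v) : opv 37 xB eE v = 0 := by
  obtain ⟨f, hf0, -, hf, hn⟩ := iB6m.spec iB6m_chk h5 xB (fun k hk => cd_xB (by have : k < 37 := hk; omega)) v
    (slB6m h5 h1 h2)
  have h := F_opc h5 (n := 6) (m := 37) (T := iB6m.T) (x := xB) (f := f) hf eE 1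
  rw [Nat.eq_of_beq_eq_true l4B, F_zero, show (1 : ℕ) = unit 0 from rfl, F_unit f (by norm_num), hf0] at h
  exact h.symm

omit hz in
/-- the regular table -/
theorem regB (v : V) : ∃ f : ℕ → V, f 0 = v ∧ IsTab 60 37 iB60.T xB f := by
  obtain ⟨f, hf0, -, hf, hn⟩ := iB60.spec iB60_chk h5 xB (fun k hk => cd_xB (by have : k < 37 := hk; omega)) v (by
    intro k hk hk0
    exfalso
    have hk' : k < 37 := hk
    have h0 : at' 3 iB60.SL k = 0 := by
      rw [show iB60.SL = 0 from rfl]
      simp [at']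
    omega)
  exact ⟨f, hf0, hf⟩

omit hz in
/-- the idempotent -/
theorem L5B (v : V) : opv 37 xB eE (opv 37 xB eE v) = opv 37 xB eE v := by
  obtain ⟨f, hf0, hf⟩ := regB h5 v
  have h1 := F_opc h5 hf eE 1
  have h2 := F_opc h5 hf eE (opc 60 37 iB60.T eE 1)
  rw [Nat.eq_of_beq_eq_true idemB] at h2
  rw [show F 60 f 1 = v by rw [show (1 : ℕ) = unit 0 from rfl, F_unit f (by norm_num), hf0]] at h1
  rw [h1] at h2
  exact h2.symm

omit hz in
theorem L5cB {k : ℕ} (hk : k ∈ [36, 15, 13, 28]) (v : V) : opv 37 xB eE (xB k • v) = xB k • opv 37 xB eE v := by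
  have hk' : k < 37 := by simp only [List.mem_cons, List.not_mem_nil, or_false] at hk; omega
  obtain ⟨f, hf0, hf⟩ := regB h5 v
  have h1 := F_opc h5 hf eE 1
  have h2 := F_ap' h5 hf hk' (opc 60 37 iB60.T eE 1)
  have h3 := F_ap' h5 hf hk' 1
  have h4 := F_opc h5 hf eE (ap 60 iB60.T (k * 60) 1)
  rw [show F 60 f 1 = v by rw [show (1 : ℕ) = unit 0 from rfl, F_unit f (by norm_num), hf0]] at h1 h3
  have h6 := List.all_eq_true.1 centrB k hk
  rw [Nat.eq_of_beq_eq_true h6, h4, h3, h1] at h2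
  exact h2

omit hz in
theorem a4fB {k : ℕ} (hk : k ∈ [13, 28]) (v : V) : xB k • opv 37 xB a4 v = opv 37 xB a4 v := by
  have hk' : k < 37 := by simp only [List.mem_cons, List.not_mem_nil, or_false] at hk; omega
  obtain ⟨f, hf0, hf⟩ := regB h5 v
  have h1 := F_opc h5 hf a4 1
  have h2 := F_ap' h5 hf hk' (opc 60 37 iB60.T a4 1)
  rw [show F 60 f 1 = v by rw [show (1 : ℕ) = unit 0 from rfl, F_unit f (by norm_num), hf0]] at h1
  have h6 := List.all_eq_true.1 a4invB k hk
  rw [Nat.eq_of_beq_eq_true h6, h1] at h2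
  exact h2.symm

omit hz in
theorem v4fB {k : ℕ} (hk : k ∈ [13, 15]) (v : V) : xB k • opv 37 xB v4 v = opv 37 xB v4 v := by
  have hk' : k < 37 := by simp only [List.mem_cons, List.not_mem_nil, or_false] at hk; omega
  obtain ⟨f, hf0, hf⟩ := regB h5 v
  have h1 := F_opc h5 hf v4 1
  have h2 := F_ap' h5 hf hk' (opc 60 37 iB60.T v4 1)
  rw [show F 60 f 1 = v by rw [show (1 : ℕ) = unit 0 from rfl, F_unit f (by norm_num), hf0]] at h1
  have h6 := List.all_eq_true.1 v4invB k hk
  rw [Nat.eq_of_beq_eq_true h6, h1] at h2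
  exact h2.symm

omit hz h5 in
/-- action on a table with a character -/
theorem slA6p {v : V} (h1 : xA 36 • v = v) (h2 : xA 15 • v = v) :
    ∀ k < iA6p.m, 0 < at' 3 iA6p.SL k → xA k • v = at' 3 iA6p.SL k • v := by
  intro k hk hk0
  have hk' : k < 37 := hk
  interval_cases k
  all_goals first
    | exact absurd hk0 (by decide +kernel)
    | (rw [h1, show at' 3 iA6p.SL 36 = 1 by decide +kernel, one_smul])
    | (rw [h2, show at' 3 iA6p.SL 15 = 1 by decide +kernel, one_smul])

omit hz in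
theorem slA6m {v : V} (h1 : xA 36 • v = v) (h2 : xA 15 • v = -v) :
    ∀ k < iA6m.m, 0 < at' 3 iA6m.SL k → xA k • v = at' 3 iA6m.SL k • v := by
  intro k hk hk0
  have hk' : k < 37 := hk
  interval_cases k
  all_goals first
    | exact absurd hk0 (by decide +kernel)
    | (rw [h1, show at' 3 iA6m.SL 36 = 1 by decide +kernel, one_smul])
    | (rw [h2, show at' 3 iA6m.SL 15 = 4 by decide +kernel, neg_eq h5])

omit hz in
/-- the idempotent kills the vectors of type `-` -/
theorem L4A {v : V} (h1 : xA 36 • v = v) (h2 : xA 15 • v = -v) : opv 37 xA eE v = 0 := by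
  obtain ⟨f, hf0, -, hf, hn⟩ := iA6m.spec iA6m_chk h5 xA (fun k hk => cd_xA (by have : k < 37 := hk; omega)) v
    (slA6m h5 h1 h2)
  have h := F_opc h5 (n := 6) (m := 37) (T := iA6m.T) (x := xA) (f := f) hf eE 1
  rw [Nat.eq_of_beq_eq_true l4A, F_zero, show (1 : ℕ) = unit 0 from rfl, F_unit f (by norm_num), hf0] at h
  exact h.symm

omit hz in
/-- the regular table -/
theorem regA (v : V) : ∃ f : ℕ → V, f 0 = v ∧ IsTab 60 37 iA60.T xA f := by
  obtain ⟨f, hf0, -, hf, hn⟩ := iA60.spec iA60_chk h5 xA (fun k hk => cd_xA (by have : k < 37 := hk; omega)) v (by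
    intro k hk hk0
    exfalso
    have hk' : k < 37 := hk
    have h0 : at' 3 iA60.SL k = 0 := by
      rw [show iA60.SL = 0 from rfl]
      simp [at']
    omega)
  exact ⟨f, hf0, hf⟩

omit hz in
/-- the idempotent -/
theorem L5A (v : V) : opv 37 xA eE (opv 37 xA eE v) = opv 37 xA eE v := by
  obtain ⟨f, hf0, hf⟩ := regA h5 v
  have h1 := F_opc h5 hf eE 1
  have h2 := F_opc h5 hf eE (opc 60 37 iA60.T eE 1)
  rw [Nat.eq_of_beq_eq_true idemA] at h2
  rw [show F 60 f 1 = v by rw [show (1 : ℕ) = unit 0 from rfl, F_unit f (by norm_num), hf0]] at h1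
  rw [h1] at h2
  exact h2.symm

omit hz in
theorem L5cA {k : ℕ} (hk : k ∈ [36, 15, 13, 28]) (v : V) : opv 37 xA eE (xA k • v) = xA k • opv 37 xA eE v := by
  have hk' : k < 37 := by simp only [List.mem_cons, List.not_mem_nil, or_false] at hk; omega
  obtain ⟨f, hf0, hf⟩ := regA h5 v
  have h1 := F_opc h5 hf eE 1
  have h2 := F_ap' h5 hf hk' (opc 60 37 iA60.T eE 1)
  have h3 := F_ap' h5 hf hk' 1
  have h4 := F_opc h5 hf eE (ap 60 iA60.T (k * 60) 1)
  rw [show F 60 f 1 = v by rw [show (1 : ℕ) = unit 0 from rfl, F_unit f (by norm_num), hf0]] at h1 h3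
  have h6 := List.all_eq_true.1 centrA k hk
  rw [Nat.eq_of_beq_eq_true h6, h4, h3, h1] at h2
  exact h2

omit hz in
theorem a4fA {k : ℕ} (hk : k ∈ [13, 28]) (v : V) : xA k • opv 37 xA a4 v = opv 37 xA a4 v := by
  have hk' : k < 37 := by simp only [List.mem_cons, List.not_mem_nil, or_false] at hk; omega
  obtain ⟨f, hf0, hf⟩ := regA h5 v
  have h1 := F_opc h5 hf a4 1
  have h2 := F_ap' h5 hf hk' (opc 60 37 iA60.T a4 1)
  rw [show F 60 f 1 = v by rw [show (1 : ℕ) = unit 0 from rfl, F_unit f (by norm_num), hf0]] at h1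
  have h6 := List.all_eq_true.1 a4invA k hk
  rw [Nat.eq_of_beq_eq_true h6, h1] at h2
  exact h2.symm

omit hz in
theorem v4fA {k : ℕ} (hk : k ∈ [13, 15]) (v : V) : xA k • opv 37 xA v4 v = opv 37 xA v4 v := by
  have hk' : k < 37 := by simp only [List.mem_cons, List.not_mem_nil, or_false] at hk; omega
  obtain ⟨f, hf0, hf⟩ := regA h5 v
  have h1 := F_opc h5 hf v4 1
  have h2 := F_ap' h5 hf hk' (opc 60 37 iA60.T v4 1)
  rw [show F 60 f 1 = v by rw [show (1 : ℕ) = unit 0 from rfl, F_unit f (by norm_num), hf0]] at h1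
  have h6 := List.all_eq_true.1 v4invA k hk
  rw [Nat.eq_of_beq_eq_true h6, h1] at h2
  exact h2.symm

/-- type `+` and killed by the idempotent -/
theorem L3B {v : V} (h1 : xB 36 • v = v) (h2 : xB 15 • v = v) (h3 : opv 37 xB eE v = 0) : v = 0 := by
  refine iB6p.kill iB6p_chk h5 xB (fun k hk => cd_xB (by have : k < 37 := hk; omega)) (v := v) (slB6p h1 h2) iB6p_gens
    (fun _ => True) trivial (fun _ _ _ _ => trivial)
    (EP := []) (by simp) (XP := [(13, 36)]) ?_ hz (L0 := [0x24920]) ?_ pB3_run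
  · intro p hp
    rw [List.mem_singleton] at hp
    subst hp
    exact nsX true
  · intro f hf0 hf c hc
    rw [List.mem_singleton] at hc
    subst hc
    have h := F_opc h5 (n := 6) (m := 37) (T := iB6p.T) (x := xB) (f := f) hf eE 1
    rw [Nat.eq_of_beq_eq_true l3B, show (1 : ℕ) = unit 0 from rfl, F_unit f (by norm_num), hf0, h3] at h
    exact h


/-! #### subgroups -/

omit h5 hz in
theorem opv_add (m : ℕ) (x : ℕ → A10) (E : ℕ) (v w : V) : opv m x E (v + w) = opv m x E v + opv m x E w := by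
  simp only [opv, smul_add, Finset.sum_add_distrib]

omit h5 hz in
theorem opv_zero (m : ℕ) (x : ℕ → A10) (E : ℕ) : opv m x E (0 : V) = 0 := by
  simp [opv]

omit h5 hz in
theorem opv_neg (m : ℕ) (x : ℕ → A10) (E : ℕ) (v : V) : opv m x E (-v) = -opv m x E v := by
  simp only [opv, smul_neg, Finset.sum_neg_distrib]

/-- fixed vectors -/
def fx (V : Type*) [AddCommGroup V] [DistribMulAction A10 V] (g : A10) : AddSubgroup V where
  carrier := {v | g • v = v}
  add_mem' := fun {a b} ha hb => by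
    change g • (a + b) = a + b
    rw [smul_add, show g • a = a from ha, show g • b = b from hb]
  zero_mem' := smul_zero g
  neg_mem' := fun {a} ha => by
    change g • (-a) = -a
    rw [smul_neg, show g • a = a from ha]

/-- negated vectors -/
def ng (V : Type*) [AddCommGroup V] [DistribMulAction A10 V] (g : A10) : AddSubgroup V where
  carrier := {v | g • v = -v}
  add_mem' := fun {a b} ha hb => by
    change g • (a + b) = -(a + b)
    rw [smul_add, show g • a = -a from ha, show g • b = -b from hb, neg_add]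
  zero_mem' := by
    change g • (0 : V) = -0
    rw [smul_zero, neg_zero]
  neg_mem' := fun {a} ha => by
    change g • (-a) = - -a
    rw [smul_neg, show g • a = -a from ha]

/-- kernel of an operator -/
def ek (V : Type*) [AddCommGroup V] [DistribMulAction A10 V] (x : ℕ → A10) (E : ℕ) : AddSubgroup V where
  carrier := {v | opv 37 x E v = 0}
  add_mem' := fun {a b} ha hb => by
    change opv 37 x E (a + b) = 0
    rw [opv_add, show opv 37 x E a = 0 from ha, show opv 37 x E b = 0 from hb, add_zero]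
  zero_mem' := opv_zero 37 x E
  neg_mem' := fun {a} ha => by
    change opv 37 x E (-a) = 0
    rw [opv_neg, show opv 37 x E a = 0 from ha, neg_zero]

/-- fixed vectors of an operator -/
def ef (V : Type*) [AddCommGroup V] [DistribMulAction A10 V] (x : ℕ → A10) (E : ℕ) : AddSubgroup V where
  carrier := {v | opv 37 x E v = v}
  add_mem' := fun {a b} ha hb => by
    change opv 37 x E (a + b) = a + b
    rw [opv_add, show opv 37 x E a = a from ha, show opv 37 x E b = b from hb]
  zero_mem' := opv_zero 37 x E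
  neg_mem' := fun {a} ha => by
    change opv 37 x E (-a) = -a
    rw [opv_neg, show opv 37 x E a = a from ha]

omit hz in
theorem eigB (W : AddSubgroup V) (hW : ∀ w ∈ W, xB 36 • w ∈ W) (hW' : ∀ w ∈ W, xB 15 • w ∈ W) {w : V} (hw : w ∈ W)
    (hne : w ≠ 0) : ∃ y ∈ W, y ≠ 0 ∧ xB 36 • y = y ∧ (xB 15 • y = y ∨ xB 15 • y = -y) :=
  eig h5 true W hW hW' hw hne

omit hz in
theorem eigA (W : AddSubgroup V) (hW : ∀ w ∈ W, xA 36 • w ∈ W) (hW' : ∀ w ∈ W, xA 15 • w ∈ W) {w : V} (hw : w ∈ W)
    (hne : w ≠ 0) : ∃ y ∈ W, y ≠ 0 ∧ xA 36 • y = y ∧ (xA 15 • y = y ∨ xA 15 • y = -y) :=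
  eig h5 false W hW hW' hw hne

omit h5 hz in
theorem inf_smul {W1 W2 : AddSubgroup V} {g : A10} (h1 : ∀ v ∈ W1, g • v ∈ W1) (h2 : ∀ v ∈ W2, g • v ∈ W2) :
    ∀ v ∈ W1 ⊓ W2, g • v ∈ W1 ⊓ W2 := fun v hv => ⟨h1 v hv.1, h2 v hv.2⟩

omit h5 hz in
theorem fx_smul {g h : A10} (hc : g * h = h * g) (v : V) (hv : v ∈ fx V g) : h • v ∈ fx V g := by
  change g • h • v = h • v
  rw [← mul_smul, hc, mul_smul, show g • v = v from hv]

omit h5 hz in
theorem ng_smul {g h : A10} (hc : g * h = h * g) (v : V) (hv : v ∈ ng V g) : h • v ∈ ng V g := by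
  change g • h • v = -(h • v)
  rw [← mul_smul, hc, mul_smul, show g • v = -v from hv, smul_neg]

omit h5 hz in
theorem ek_smul {x : ℕ → A10} {E : ℕ} {h : A10} (hc : ∀ v : V, opv 37 x E (h • v) = h • opv 37 x E v) (v : V)
    (hv : v ∈ ek V x E) : h • v ∈ ek V x E := by
  change opv 37 x E (h • v) = 0
  rw [hc, show opv 37 x E v = 0 from hv, smul_zero]

omit h5 hz in
theorem ef_smul {x : ℕ → A10} {E : ℕ} {h : A10} (hc : ∀ v : V, opv 37 x E (h • v) = h • opv 37 x E v) (v : V)
    (hv : v ∈ ef V x E) : h • v ∈ ef V x E := by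
  change opv 37 x E (h • v) = h • v
  rw [hc, show opv 37 x E v = v from hv]

omit h5 hz in
theorem smul_F (g : A10) (n : ℕ) (f : ℕ → V) (c : ℕ) : g • F n f c = ∑ i ∈ Finset.range n, dg c i • g • f i := by
  rw [F, Finset.smul_sum]
  exact Finset.sum_congr rfl fun i _ => smul_comm _ _ _

/-! #### the argument -/

/-- A vector fixed by an alternating group of degree four on one side is not of type `-` on the other side. -/
theorem L6A {w : V} (h1 : xA 13 • w = w) (h2 : xA 28 • w = w) (h3 : xB 36 • w = w) (h4 : xB 15 • w = -w) : w = 0 := by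
  obtain ⟨f, hf0, hpar, hf, hn⟩ := iA5.spec iA5_chk h5 xA (fun k hk => cd_xA (by have : k < 37 := hk; omega)) w (by
    intro k hk hk0
    have hk' : k < 37 := hk
    interval_cases k
    all_goals first
      | exact absurd hk0 (by decide +kernel)
      | (rw [h1, show at' 3 iA5.SL 13 = 1 by decide +kernel, one_smul])
      | (rw [h2, show at' 3 iA5.SL 28 = 1 by decide +kernel, one_smul]))
  have hcf : ∀ i < 5, xB 36 • f i = f i ∧ xB 15 • f i = -f i := by
    intro i
    induction i using Nat.strong_induction_on with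
    | _ i ih =>
      intro hi
      rcases Nat.eq_zero_or_pos i with rfl | h0
      · rw [hf0]
        exact ⟨h3, h4⟩
      · obtain ⟨j, hj, h⟩ := hpar i hi h0
        have hm := Inst.mem_gens iA5_gens hi h0
        rw [List.mem_singleton] at hm
        rw [hm] at h
        obtain ⟨e1, e2⟩ := ih j hj (hj.trans hi)
        rw [h, ← mul_smul, ← mul_smul, comm_BA (by norm_num) (by norm_num), comm_BA (by norm_num) (by norm_num), mul_smul,
          mul_smul, e1, e2, smul_neg]
        exact ⟨rfl, rfl⟩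
  have hns : ∀ p ∈ [((13 : ℕ), (36 : ℕ))], ¬ Group.IsSolvable (closure ({xA p.1, xA p.2} : Set A10)) := by
    intro p hp
    rw [List.mem_singleton] at hp
    subst hp
    exact nsX false
  have hr := exec_zero h5 iA5 (x := xA) (f := f) hf (EP := []) (by simp) hns hz pA6a (L := []) (by simp)
  have hru := pA6a_run
  rw [Bool.and_eq_true] at hru
  have r1 := getD_zero hr 0
  have r2 := getD_zero hr 1
  rw [Nat.eq_of_beq_eq_true hru.1] at r1
  rw [Nat.eq_of_beq_eq_true hru.2] at r2
  have hu : F 5 f 0x29c = 0 := by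
    apply L2 h5 hz
    · rw [smul_F, F]
      exact Finset.sum_congr rfl fun i hi => by rw [(hcf i (Finset.mem_range.1 hi)).1]
    · rw [smul_F, F, ← Finset.sum_neg_distrib]
      exact Finset.sum_congr rfl fun i hi => by rw [(hcf i (Finset.mem_range.1 hi)).2, smul_neg]
    · exact fixed_of h5 (n := 5) (m := 37) (T := iA5.T) hf (by norm_num) r1
    · have h := F_lc h5 5 f [(1, ap 5 iA5.T (15 * 5) 0x29c), (1, 0x29c)]
      have r2' : F 5 f (lc 5 [(1, ap 5 iA5.T (15 * 5) 0x29c), (1, 0x29c)]) = 0 := r2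
      rw [r2', List.map_cons, List.map_cons, List.map_nil, List.sum_cons, List.sum_cons, List.sum_nil, add_zero, one_smul,
        one_smul] at h
      rw [F_ap' h5 (n := 5) (m := 37) (T := iA5.T) (x := xA) (f := f) hf (by norm_num)] at h
      exact eq_neg_of_add_eq_zero_left h.symm
  have hr2 := exec_zero h5 iA5 (x := xA) (f := f) hf (EP := []) (by simp) hns hz pA6b (L := [0x29c]) (by
    intro c hc
    rw [List.mem_singleton] at hc
    subst hc
    exact hu)
  have r3 := getD_zero hr2 5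
  rw [Nat.eq_of_beq_eq_true pA6b_run, show (1 : ℕ) = unit 0 from rfl, F_unit f hn, hf0] at r3
  exact r3

omit h5 hz in
theorem opvB_smul {j : ℕ} (hj : j < 37) (E : ℕ) (v : V) : opv 37 xB E (xA j • v) = xA j • opv 37 xB E v :=
  opv_smul (fun _ hk => comm_BA hk hj) E v

omit h5 hz in
theorem opvA_smul {j : ℕ} (hj : j < 37) (E : ℕ) (v : V) : opv 37 xA E (xB j • v) = xB j • opv 37 xA E v :=
  opv_smul (fun _ hk => (comm_BA hj hk).symm) E v

theorem L7 {w : V} (h1 : xA 13 • w = w) (h2 : xA 28 • w = w) : opv 37 xB eE w = w := by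
  by_contra hcon
  have hne : w - opv 37 xB eE w ≠ 0 := fun h => hcon (sub_eq_zero.1 h).symm
  let W : AddSubgroup V := fx V (xA 13) ⊓ fx V (xA 28) ⊓ ek V xB eE
  have hw : w - opv 37 xB eE w ∈ W := by
    refine ⟨⟨?_, ?_⟩, ?_⟩
    · change xA 13 • _ = _
      rw [smul_sub, h1, ← opvB_smul (by norm_num), h1]
    · change xA 28 • _ = _
      rw [smul_sub, h2, ← opvB_smul (by norm_num), h2]
    · change opv 37 xB eE _ = 0
      rw [opv_sub, L5B h5, sub_self]
  obtain ⟨y, ⟨⟨hy1, hy2⟩, hy3⟩, hy0, hcy, hhy⟩ := eigB h5 W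
    (inf_smul (inf_smul (fx_smul (comm_BA (by norm_num) (by norm_num)).symm) (fx_smul (comm_BA (by norm_num) (by norm_num)).symm)) (ek_smul (L5cB h5 (by simp))))
    (inf_smul (inf_smul (fx_smul (comm_BA (by norm_num) (by norm_num)).symm) (fx_smul (comm_BA (by norm_num) (by norm_num)).symm)) (ek_smul (L5cB h5 (by simp)))) hw hne
  rcases hhy with hhy | hhy
  · exact hy0 (L3B h5 hz hcy hhy hy3)
  · exact hy0 (L6A h5 hz hy1 hy2 hcy hhy)

omit h5 hz in
theorem opv_e1 (w : V) : opv 39 xB e1 w = opv 37 xB eE w + (4 : ℕ) • w := by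
  have h37 : at' 3 e1 37 = 0 := by decide +kernel
  have h38 : at' 3 e1 38 = 0 := by decide +kernel
  have h0 : at' 3 e1 0 = 4 := by decide +kernel
  have h0' : at' 3 eE 0 = 0 := by decide +kernel
  have hx0 : xB 0 = 1 := rfl
  have hk : ∀ k < 36, at' 3 e1 (k + 1) = at' 3 eE (k + 1) := by decide +kernel
  have key : ∀ E : ℕ, ∑ k ∈ Finset.range 37, at' 3 E k • xB k • w =
      ∑ k ∈ Finset.range 36, at' 3 E (k + 1) • xB (k + 1) • w + at' 3 E 0 • xB 0 • w :=
    fun E => Finset.sum_range_succ' _ 36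
  have h1 : opv 39 xB e1 w = ∑ k ∈ Finset.range 37, at' 3 e1 k • xB k • w := by
    rw [opv, Finset.sum_range_succ, Finset.sum_range_succ, h37, h38, zero_smul, zero_smul, add_zero, add_zero]
  have h2 : opv 37 xB eE w = ∑ k ∈ Finset.range 37, at' 3 eE k • xB k • w := rfl
  rw [h1, h2, key, key, h0, h0', hx0, one_smul, zero_smul, add_zero]
  congr 1

/-- There is no nonzero vector fixed by an alternating group of degree four. -/
theorem L8 {w : V} (h1 : xA 13 • w = w) (h2 : xA 28 • w = w) : w = 0 := by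
  by_contra hne
  let W : AddSubgroup V := fx V (xA 13) ⊓ fx V (xA 28)
  obtain ⟨y, ⟨hy1, hy2⟩, hy0, hcy, hhy⟩ := eigB h5 W
    (inf_smul (fx_smul (comm_BA (by norm_num) (by norm_num)).symm) (fx_smul (comm_BA (by norm_num) (by norm_num)).symm))
    (inf_smul (fx_smul (comm_BA (by norm_num) (by norm_num)).symm) (fx_smul (comm_BA (by norm_num) (by norm_num)).symm)) (w := w) ⟨h1, h2⟩ hne
  rcases hhy with hhy | hhy
  · apply hy0
    refine iS3.kill iS3_chk h5 xB (fun k hk => cd_xB hk) (v := y) ?_ iS3_gens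
      (fun w => xA 13 • w = w ∧ xA 28 • w = w) ⟨hy1, hy2⟩ ?_ (EP := [e1]) ?_ (XP := [(37, 36)]) ?_ hz (L0 := []) (by simp) pS3_run
    · intro k hk hk0
      have hk' : k < 39 := hk
      have e36 : xB 36 • y = y := hcy
      have e15 : xB 15 • y = y := hhy
      interval_cases k
      all_goals first
        | exact absurd hk0 (by decide +kernel)
        | (rw [e36, show at' 3 iS3.SL 36 = 1 by decide +kernel, one_smul])
        | (rw [e15, show at' 3 iS3.SL 15 = 1 by decide +kernel, one_smul])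
    · intro k hk w ⟨hw1, hw2⟩
      simp only [List.mem_cons, List.not_mem_nil, or_false] at hk
      rcases hk with rfl | rfl
      · exact ⟨fx_smul (comm_BA (by norm_num) (by norm_num)).symm w hw1, fx_smul (comm_BA (by norm_num) (by norm_num)).symm w hw2⟩
      · exact ⟨fx_smul (g := xA 13) (h := xB 38) (by decide +kernel) w hw1, fx_smul (g := xA 28) (h := xB 38) (by decide +kernel) w hw2⟩
    · intro E hE w ⟨hw1, hw2⟩
      rw [List.mem_singleton] at hE
      subst hE
      change opv 39 xB e1 w = 0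
      rw [opv_e1, L7 h5 hz hw1 hw2, ← h5 w, show (5 : ℕ) = 1 + 4 from rfl, add_smul, one_smul]
    · intro p hp
      rw [List.mem_singleton] at hp
      subst hp
      exact nsZ
  · exact hy0 (L6A h5 hz hy1 hy2 hcy hhy)

/-- the permutation exchanging the sides -/
def g0 : A10 := dd 1 6 2 7 * dd 3 8 4 9

theorem L8B {w : V} (h1 : xB 13 • w = w) (h2 : xB 28 • w = w) : w = 0 := by
  have h3 : xA 13 * g0 = g0 * xB 13 := by decide +kernel
  have h4 : xA 28 * g0 = g0 * xB 28 := by decide +kernel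
  have h := L8 h5 hz (w := g0 • w) (by rw [← mul_smul, h3, mul_smul, h1]) (by rw [← mul_smul, h4, mul_smul, h2])
  exact (smul_eq_zero_iff_eq g0).1 h

theorem L9 {u : V} (h1 : xA 13 • u = u) (h2 : xA 15 • u = u) : opv 37 xA eE u = u := by
  have h : u - opv 37 xA eE u = 0 := by
    refine iA15.kill iA15_chk h5 xA (fun k hk => cd_xA hk) ?_ iA15_gens (fun w => opv 37 xA eE w = 0) ?_ ?_ (EP := [eE, a4]) ?_
      (XP := []) (by simp) hz (L0 := []) (by simp) pA9_run
    · intro k hk hk0
      have hk' : k < 37 := hk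
      have e13 : xA 13 • (u - opv 37 xA eE u) = u - opv 37 xA eE u := by
        rw [smul_sub, h1, ← L5cA h5 (by simp), h1]
      have e15 : xA 15 • (u - opv 37 xA eE u) = u - opv 37 xA eE u := by
        rw [smul_sub, h2, ← L5cA h5 (by simp), h2]
      interval_cases k
      all_goals first
        | exact absurd hk0 (by decide +kernel)
        | (rw [e13, show at' 3 iA15.SL 13 = 1 by decide +kernel, one_smul])
        | (rw [e15, show at' 3 iA15.SL 15 = 1 by decide +kernel, one_smul])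
    · rw [opv_sub, L5A h5, sub_self]
    · intro k hk w hw
      rw [L5cA h5 (by simp only [List.mem_cons, List.not_mem_nil, or_false] at hk ⊢; tauto), show opv 37 xA eE w = 0 from hw,
        smul_zero]
    · intro E hE w hw
      simp only [List.mem_cons, List.not_mem_nil, or_false] at hE
      rcases hE with rfl | rfl
      · exact hw
      · exact L8 h5 hz (a4fA h5 (by simp) w) (a4fA h5 (by simp) w)
  exact (sub_eq_zero.1 h).symm

theorem L10 {u : V} (h1 : xA 13 • u = u) (h2 : xA 15 • u = u) : opv 37 xB eE u = 0 := by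
  by_contra hne
  let W : AddSubgroup V := fx V (xA 13) ⊓ fx V (xA 15) ⊓ ef V xB eE
  have hw : opv 37 xB eE u ∈ W := by
    refine ⟨⟨?_, ?_⟩, L5B h5 u⟩
    · change xA 13 • _ = _
      rw [← opvB_smul (by norm_num), h1]
    · change xA 15 • _ = _
      rw [← opvB_smul (by norm_num), h2]
  obtain ⟨y, ⟨⟨hy1, hy2⟩, hy3⟩, hy0, hcy, hhy⟩ := eigB h5 W
    (inf_smul (inf_smul (fx_smul (comm_BA (by norm_num) (by norm_num)).symm) (fx_smul (comm_BA (by norm_num) (by norm_num)).symm)) (ef_smul (L5cB h5 (by simp))))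
    (inf_smul (inf_smul (fx_smul (comm_BA (by norm_num) (by norm_num)).symm) (fx_smul (comm_BA (by norm_num) (by norm_num)).symm)) (ef_smul (L5cB h5 (by simp)))) hw hne
  rcases hhy with hhy | hhy
  · let W2 : AddSubgroup V := fx V (xB 36) ⊓ fx V (xB 15) ⊓ ef V xA eE
    obtain ⟨z, ⟨⟨hz1, hz2⟩, hz3⟩, hz0, hcz, hhz⟩ := eigA h5 W2
      (inf_smul (inf_smul (fx_smul (comm_BA (by norm_num) (by norm_num))) (fx_smul (comm_BA (by norm_num) (by norm_num)))) (ef_smul (L5cA h5 (by simp))))
      (inf_smul (inf_smul (fx_smul (comm_BA (by norm_num) (by norm_num))) (fx_smul (comm_BA (by norm_num) (by norm_num)))) (ef_smul (L5cA h5 (by simp)))) (w := y)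
      ⟨⟨hcy, hhy⟩, L9 h5 hz hy1 hy2⟩ hy0
    rcases hhz with hhz | hhz
    · exact hz0 (L1 h5 hz hz1 hz2 hcz hhz)
    · have h := L4A h5 (v := z) hcz hhz
      rw [show opv 37 xA eE z = z from hz3] at h
      exact hz0 h
  · have h := L4B h5 (v := y) hcy hhy
    rw [show opv 37 xB eE y = y from hy3] at h
    exact hy0 h

omit h5 hz in
theorem opv_ext {E : ℕ} (h37 : at' 3 E 37 = 0) (h38 : at' 3 E 38 = 0) (w : V) : opv 39 xB E w = opv 37 xB E w := by
  rw [opv, Finset.sum_range_succ, Finset.sum_range_succ, h37, h38, zero_smul, zero_smul, add_zero, add_zero, opv]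

/-- There is no nonzero vector fixed by a four-group on four points. -/
theorem L11 {u : V} (h1 : xA 13 • u = u) (h2 : xA 15 • u = u) : u = 0 := by
  by_contra hne
  let W : AddSubgroup V := fx V (xA 13) ⊓ fx V (xA 15)
  obtain ⟨y, ⟨hy1, hy2⟩, hy0, hcy, hhy⟩ := eigB h5 W
    (inf_smul (fx_smul (comm_BA (by norm_num) (by norm_num)).symm) (fx_smul (comm_BA (by norm_num) (by norm_num)).symm))
    (inf_smul (fx_smul (comm_BA (by norm_num) (by norm_num)).symm) (fx_smul (comm_BA (by norm_num) (by norm_num)).symm)) (w := u) ⟨h1, h2⟩ hne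
  rcases hhy with hhy | hhy
  · exact hy0 (L3B h5 hz hcy hhy (L10 h5 hz hy1 hy2))
  · apply hy0
    refine iS5.kill iS5_chk h5 xB (fun k hk => cd_xB hk) (v := y) ?_ iS5_gens
      (fun w => xA 13 • w = w ∧ xA 15 • w = w) ⟨hy1, hy2⟩ ?_ (EP := [eE, a4]) ?_ (XP := []) (by simp) hz (L0 := []) (by simp)
      pS5_run
    · intro k hk hk0
      have hk' : k < 39 := hk
      have e36 : xB 36 • y = y := hcy
      have e15 : xB 15 • y = -y := hhy
      interval_cases k
      all_goals first
        | exact absurd hk0 (by decide +kernel)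
        | (rw [e36, show at' 3 iS5.SL 36 = 1 by decide +kernel, one_smul])
        | (rw [e15, show at' 3 iS5.SL 15 = 4 by decide +kernel, neg_eq h5])
    · intro k hk w ⟨hw1, hw2⟩
      simp only [List.mem_cons, List.not_mem_nil, or_false] at hk
      rcases hk with rfl | rfl
      · exact ⟨fx_smul (comm_BA (by norm_num) (by norm_num)).symm w hw1, fx_smul (comm_BA (by norm_num) (by norm_num)).symm w hw2⟩
      · exact ⟨fx_smul (g := xA 13) (h := xB 38) (by decide +kernel) w hw1, fx_smul (g := xA 15) (h := xB 38) (by decide +kernel) w hw2⟩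
    · intro E hE w ⟨hw1, hw2⟩
      simp only [List.mem_cons, List.not_mem_nil, or_false] at hE
      rcases hE with rfl | rfl
      · change opv 39 xB eE w = 0
        rw [opv_ext (by decide +kernel) (by decide +kernel)]
        exact L10 h5 hz hw1 hw2
      · change opv 39 xB a4 w = 0
        rw [opv_ext (by decide +kernel) (by decide +kernel)]
        exact L8B h5 hz (a4fB h5 (by simp) w) (a4fB h5 (by simp) w)

theorem L11B {w : V} (h1 : xB 13 • w = w) (h2 : xB 15 • w = w) : w = 0 := by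
  have h3 : xA 13 * g0 = g0 * xB 13 := by decide +kernel
  have h4 : xA 15 * g0 = g0 * xB 15 := by decide +kernel
  have h := L11 h5 hz (u := g0 • w) (by rw [← mul_smul, h3, mul_smul, h1]) (by rw [← mul_smul, h4, mul_smul, h2])
  exact (smul_eq_zero_iff_eq g0).1 h

/-- There is no nonzero vector of type `+`. -/
theorem L12A {v : V} (h1 : xA 36 • v = v) (h2 : xA 15 • v = v) : v = 0 := by
  refine iA6p.kill iA6p_chk h5 xA (fun k hk => cd_xA (by have : k < 37 := hk; omega)) (v := v) (slA6p h1 h2) iA6p_gens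
    (fun _ => True) trivial (fun _ _ _ _ => trivial)
    (EP := [v4]) ?_ (XP := []) (by simp) hz (L0 := []) (by simp) pA12_run
  intro E hE w _
  rw [List.mem_singleton] at hE
  subst hE
  exact L11 h5 hz (v4fA h5 (by simp) w) (v4fA h5 (by simp) w)

/-- There is no nonzero vector of type `+`. -/
theorem L12B {v : V} (h1 : xB 36 • v = v) (h2 : xB 15 • v = v) : v = 0 := by
  refine iB6p.kill iB6p_chk h5 xB (fun k hk => cd_xB (by have : k < 37 := hk; omega)) (v := v) (slB6p h1 h2) iB6p_gens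
    (fun _ => True) trivial (fun _ _ _ _ => trivial)
    (EP := [v4]) ?_ (XP := []) (by simp) hz (L0 := []) (by simp) pB12_run
  intro E hE w _
  rw [List.mem_singleton] at hE
  subst hE
  exact L11B h5 hz (v4fB h5 (by simp) w) (v4fB h5 (by simp) w)

theorem all_zero (v : V) : v = 0 := by
  by_contra hne
  obtain ⟨y, -, hy0, hcy, hhy⟩ := eigA h5 (⊤ : AddSubgroup V) (fun _ _ => AddSubgroup.mem_top _)
    (fun _ _ => AddSubgroup.mem_top _) (w := v) (AddSubgroup.mem_top _) hne
  rcases hhy with hhy | hhy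
  · exact hy0 (L12A h5 hz hcy hhy)
  let W : AddSubgroup V := fx V (xA 36) ⊓ ng V (xA 15)
  obtain ⟨z, ⟨hz1, hz2⟩, hz0, hcz, hhz⟩ := eigB h5 W
    (inf_smul (fx_smul (comm_BA (by norm_num) (by norm_num)).symm) (ng_smul (comm_BA (by norm_num) (by norm_num)).symm))
    (inf_smul (fx_smul (comm_BA (by norm_num) (by norm_num)).symm) (ng_smul (comm_BA (by norm_num) (by norm_num)).symm)) (w := y) ⟨hcy, hhy⟩ hy0
  rcases hhz with hhz | hhz
  · exact hz0 (L12B h5 hz hcz hhz)
  · exact hz0 (L2 h5 hz hcz hhz hz1 hz2)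

omit hz in
/-- **A nonzero `F₅A₁₀`-module has a nonzero vector with nonsolvable stabilizer.** -/
theorem five [Nontrivial V] : ∃ v : V, v ≠ 0 ∧ ¬ Group.IsSolvable (MulAction.stabilizer (alternatingGroup (Fin 10)) v) := by
  by_contra hc
  push Not at hc
  obtain ⟨w, hw⟩ := exists_ne (0 : V)
  refine hw (all_zero h5 (fun v hv => ?_) w)
  by_contra h
  exact hv (hc v h)

end Module

end Cfsg.Agent.H517.AltMod.Five
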