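import Cfsg.Agent.H517.NSC
import Cfsg.Agent.H517.AltMod.ChkA
import Cfsg.Agent.H517.AltMod.ChkB
import Cfsg.Agent.H517.AltMod.Run0
import Cfsg.Agent.H517.AltMod.Run1
import Cfsg.Agent.H517.AltMod.Run2
import Cfsg.Agent.H517.AltMod.Run3

/-!
# Modules for `A₉` in characteristic two (helper517)

`two`: a nonzero `F₂A₉`-module has a nonzero vector whose stabilizer is not solvable.
-/

set_option autoImplicit false

namespace Cfsg.Agent.H517.AltMod

open Equiv Subgroup

/-- the alternating group of degree 9 -/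
abbrev A9 : Type := alternatingGroup (Fin 9)

/-- the eight elements -/
def xg : ℕ → A9

  | 0 => ⟨swap 0 1 * swap 1 2 * swap 2 3 * swap 3 4, by rw [Equiv.Perm.mem_alternatingGroup]; decide⟩
  | 1 => ⟨swap 0 1 * swap 1 2 * swap 2 3 * swap 3 4 * swap 4 5 * swap 5 6, by rw [Equiv.Perm.mem_alternatingGroup]; decide⟩
  | 2 => ⟨swap 0 1 * swap 2 3, by rw [Equiv.Perm.mem_alternatingGroup]; decide⟩
  | 3 => ⟨swap 0 5 * swap 1 4, by rw [Equiv.Perm.mem_alternatingGroup]; decide⟩
  | 4 => ⟨swap 0 1 * swap 3 6, by rw [Equiv.Perm.mem_alternatingGroup]; decide⟩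
  | 5 => ⟨swap 0 7 * swap 1 6 * swap 2 3 * swap 4 5, by rw [Equiv.Perm.mem_alternatingGroup]; decide⟩
  | 6 => ⟨swap 0 8 * swap 1 6 * swap 3 5 * swap 4 7, by rw [Equiv.Perm.mem_alternatingGroup]; decide⟩
  | _ => ⟨swap 0 7 * swap 1 6 * swap 3 5 * swap 4 8, by rw [Equiv.Perm.mem_alternatingGroup]; decide⟩

/-- generators of the Sylow 2-subgroup -/
def tgen : ℕ → A9
  | 0 => ⟨swap 0 1 * swap 2 3, by rw [Equiv.Perm.mem_alternatingGroup]; decide⟩
  | 1 => ⟨swap 0 1 * swap 4 5, by rw [Equiv.Perm.mem_alternatingGroup]; decide⟩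
  | 2 => ⟨swap 0 1 * swap 6 7, by rw [Equiv.Perm.mem_alternatingGroup]; decide⟩
  | 3 => ⟨swap 0 2 * swap 1 3, by rw [Equiv.Perm.mem_alternatingGroup]; decide⟩
  | 4 => ⟨swap 4 6 * swap 5 7, by rw [Equiv.Perm.mem_alternatingGroup]; decide⟩
  | _ => ⟨swap 0 4 * swap 1 5 * swap 2 6 * swap 3 7, by rw [Equiv.Perm.mem_alternatingGroup]; decide⟩

/-- the code of an element of `A₉` -/
def cd (g : A9) : ℕ := code g.1

theorem cd_injective : Function.Injective cd := fun _ _ hgh => Subtype.ext (code_injective hgh)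

theorem comp_cd (g h : A9) : comp (cd g) (cd h) = cd (g * h) := comp_code _ _

theorem cd_xg {k : ℕ} (hk : k < 8) : at' 36 XS k = cd (xg k) := by
  interval_cases k <;> decide +kernel

theorem cd_tgen {k : ℕ} (hk : k < 6) : at' 36 TG k = cd (tgen k) := by
  interval_cases k <;> decide +kernel

theorem cd_one : at' 36 TT 0 = cd 1 := by decide +kernel

theorem cd_one' : at' 36 RA 0 = cd 1 := by decide +kernel

/-- the Sylow 2-subgroup -/
def T : Subgroup A9 := closure (tgen '' {q | q < 6})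

theorem chkX_all {k : ℕ} (hk : k < 8) : chkX k = true := by
  interval_cases k

  · exact hX0
  · exact hX1
  · exact hX2
  · exact hX3
  · exact hX4
  · exact hX5
  · exact hX6
  · exact hX7

theorem chkS_all {k : ℕ} (hk : k < 8) : chkS k = true := by
  interval_cases k

  · exact hS0
  · exact hS1
  · exact hS2
  · exact hS3
  · exact hS4
  · exact hS5
  · exact hS6
  · exact hS7

theorem of_chkL {c k : ℕ} (h : chkL c k = true) {i : ℕ} (hi : i < 2835) :
    at' 8 (lb c) (at' 12 (tb k) i) = at' 8 (lb c) i := by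
  have h1 := of_allB (p := fun i => Nat.beq (at' 8 (lb c) (at' 12 (tb k) i)) (at' 8 (lb c) i)) h hi
  exact Nat.eq_of_beq_eq_true h1

theorem of_chkC {w q : ℕ} (hw : w < 64) (hq : q < 6) : ∃ w' < 64, comp (at' 36 TT w) (at' 36 TG q) = at' 36 TT w' := by
  have h1 := of_allB (p := fun w => allB (fun q => anyB (fun w' => Nat.beq (comp (at' 36 TT w) (at' 36 TG q)) (at' 36 TT w')) 64) 6)
    hC hw
  have h2 := of_allB (p := fun q => anyB (fun w' => Nat.beq (comp (at' 36 TT w) (at' 36 TG q)) (at' 36 TT w')) 64) h1 hq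
  obtain ⟨w', hw', h3⟩ := of_anyB (p := fun w' => Nat.beq (comp (at' 36 TT w) (at' 36 TG q)) (at' 36 TT w')) h2
  exact ⟨w', hw', Nat.eq_of_beq_eq_true h3⟩

theorem of_chkO {w : ℕ} (hw : w < 64) : sq (sq (sq (at' 36 TT w))) = at' 36 TT 0 := by
  have h1 := of_allB (p := fun w => Nat.beq (sq (sq (sq (at' 36 TT w)))) (at' 36 TT 0)) hO hw
  exact Nat.eq_of_beq_eq_true h1

/-- the codes `TT` belong to elements of `T` -/
theorem exists_t : ∀ w < 64, ∃ t ∈ T, cd t = at' 36 TT w := by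
  intro w
  induction w using Nat.strong_induction_on with
  | _ w ih =>
    intro hw
    have h := of_allB (m := 64) (by exact hT) hw
    rw [Bool.or_eq_true] at h
    rcases h with h | h
    · have h0 : w = 0 := Nat.eq_of_beq_eq_true h
      subst h0
      exact ⟨1, one_mem _, cd_one.symm⟩
    · rw [Bool.and_eq_true, Bool.and_eq_true] at h
      obtain ⟨h1, h2, h3⟩ := h
      have h1 : at' 16 TPAR w % 256 < w := by simpa [Nat.blt] using h1
      have h2 : at' 16 TPAR w / 256 < 6 := by simpa [Nat.blt] using h2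
      have h3 := Nat.eq_of_beq_eq_true h3
      obtain ⟨t, ht, hc⟩ := ih _ h1 (by omega)
      refine ⟨t * tgen (at' 16 TPAR w / 256), mul_mem ht (subset_closure ⟨_, h2, rfl⟩), ?_⟩
      rw [← comp_cd, hc, ← cd_tgen h2]
      exact h3

theorem tgen_sq {q : ℕ} (hq : q < 6) : tgen q * tgen q = 1 := by
  interval_cases q <;> decide

/-- the elements of `T` have their codes in `TT` -/
theorem exists_w {t : A9} (ht : t ∈ T) : ∃ w < 64, cd t = at' 36 TT w := by
  have key : ∀ (x : A9) (q : ℕ), q < 6 → (∃ w < 64, cd x = at' 36 TT w) → ∃ w < 64, cd (x * tgen q) = at' 36 TT w := by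
    rintro x q hq ⟨w, hw, hx⟩
    obtain ⟨w', hw', h⟩ := of_chkC hw hq
    refine ⟨w', hw', ?_⟩
    rw [← comp_cd, hx, ← cd_tgen hq]
    exact h
  refine closure_induction_right (p := fun x _ => ∃ w < 64, cd x = at' 36 TT w) ⟨0, by norm_num, cd_one.symm⟩ ?_ ?_ ht
  · rintro x _ _ ⟨q, hq, rfl⟩ hx
    exact key x q hq hx
  · rintro x _ _ ⟨q, hq, rfl⟩ hx
    rw [inv_eq_of_mul_eq_one_left (tgen_sq hq)]
    exact key x q hq hx

theorem isPGroup_T : IsPGroup 2 T := by
  intro t
  refine ⟨3, Subtype.ext ?_⟩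
  obtain ⟨w, hw, hc⟩ := exists_w t.2
  have h := of_chkO hw
  rw [cd_one, sq, sq, sq, ← hc, comp_cd, comp_cd, comp_cd] at h
  have h1 := cd_injective h
  rw [Subgroup.coe_pow, Subgroup.coe_one, ← h1]
  norm_num only [pow_succ, pow_zero, one_mul, mul_assoc]

/-- the coset representatives -/
theorem exists_r : ∀ i < 2835, ∃ r : A9, cd r = at' 36 RA i := by
  intro i
  induction i using Nat.strong_induction_on with
  | _ i ih =>
    intro hi
    have h := of_allB (m := 2835) (by exact hP) hi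
    rw [Bool.or_eq_true] at h
    rcases h with h | h
    · have h0 : i = 0 := Nat.eq_of_beq_eq_true h
      subst h0
      exact ⟨1, cd_one'.symm⟩
    · rw [Bool.and_eq_true, Bool.and_eq_true] at h
      obtain ⟨h1, h2, h3⟩ := h
      have h1 : at' 16 PAR i % 4096 < i := by simpa [Nat.blt] using h1
      have h2 : at' 16 PAR i / 4096 < 8 := by simpa [Nat.blt] using h2
      have h3 := Nat.eq_of_beq_eq_true h3
      obtain ⟨r, hr⟩ := ih _ h1 (by omega)
      refine ⟨xg (at' 16 PAR i / 4096) * r, ?_⟩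
      rw [← comp_cd, hr, ← cd_xg h2]
      exact h3

/-- the coset representatives -/
noncomputable def rp (i : ℕ) : A9 := if h : i < 2835 then (exists_r i h).choose else 1

theorem cd_rp {i : ℕ} (h : i < 2835) : cd (rp i) = at' 36 RA i := by
  rw [rp, dif_pos h]
  exact (exists_r i h).choose_spec

theorem xg_rp {k i : ℕ} (hk : k < 8) (hi : i < 2835) :
    at' 12 (tb k) i < 2835 ∧ ∃ t ∈ T, xg k * rp i = rp (at' 12 (tb k) i) * t := by
  have h := of_allB (m := 2835) (by exact chkX_all hk) hi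
  rw [Bool.and_eq_true, Bool.and_eq_true] at h
  obtain ⟨h1, h2, h3⟩ := h
  have h1 : at' 12 (tb k) i < 2835 := by simpa [Nat.blt] using h1
  have h2 : at' 8 (wt k) i < 64 := by simpa [Nat.blt] using h2
  have h3 := Nat.eq_of_beq_eq_true h3
  obtain ⟨t, ht, hc⟩ := exists_t _ h2
  refine ⟨h1, t, ht, cd_injective ?_⟩
  rw [← comp_cd, ← comp_cd, hc, cd_rp hi, cd_rp h1, ← cd_xg hk]
  exact h3

section Module

variable {V : Type*} [AddCommGroup V] [DistribMulAction A9 V]

/-- the vectors `r v₀` -/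
noncomputable def fv (v₀ : V) (i : ℕ) : V := if i < 2835 then rp i • v₀ else 0

theorem fv_zero' (v₀ : V) {i : ℕ} (hi : 2835 ≤ i) : fv v₀ i = 0 := if_neg (by omega)

theorem fv_xg {v₀ : V} (hv : ∀ t ∈ T, t • v₀ = v₀) {k i : ℕ} (hk : k < 8) (hi : i < 2835) :
    fv v₀ (at' 12 (tb k) i) = DistribSMul.toAddMonoidHom V (xg k) (fv v₀ i) := by
  obtain ⟨h1, t, ht, h⟩ := xg_rp hk hi
  rw [fv, fv, if_pos h1, if_pos hi, DistribSMul.toAddMonoidHom_apply, ← mul_smul, h, mul_smul, hv t ht]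

theorem F_pm_zero (h2 : ∀ v : V, v + v = 0) {v₀ : V} (hv : ∀ t ∈ T, t • v₀ = v₀) {k M : ℕ} (hk : k < 8)
    (hM : F (fv v₀) M = 0) : F (fv v₀) (pm 2835 (tb k) M) = 0 := by
  rw [F_pm h2 (fv v₀) (by norm_num) (fun i hi => fv_zero' v₀ hi) (tb k) M (DistribSMul.toAddMonoidHom V (xg k))
    (fun i hi => fv_xg hv hk hi), hM, map_zero]

theorem F_mk_zero (h2 : ∀ v : V, v + v = 0) {v₀ : V} (hv : ∀ t ∈ T, t • v₀ = v₀) {c k l sel : ℕ} (hk : k < 8) (hl : l < 8)
    (hck : chkL c k = true) (hcl : chkL c l = true) (hns : ¬ Group.IsSolvable (closure ({xg l, xg k} : Set A9)))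
    (hz : ∀ v : V, ¬ Group.IsSolvable (MulAction.stabilizer A9 v) → v = 0) :
    F (fv v₀) (mk 2835 (lb c) sel) = 0 := by
  rw [F_mk h2 (fv v₀) (by norm_num)]
  apply hz
  intro hs
  apply hns
  have key : ∀ k : ℕ, k < 8 → chkL c k = true →
      xg k • (∑ i ∈ Finset.range 2835, if sel.testBit (at' 8 (lb c) i) then fv v₀ i else 0) =
        ∑ i ∈ Finset.range 2835, if sel.testBit (at' 8 (lb c) i) then fv v₀ i else 0 := by
    intro k hk hck
    exact fixed_of (fv v₀) (n := 2835) (T := tb k) (by norm_num) (fun i hi => (xg_rp hk hi).1)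
      (Nat.eq_of_beq_eq_true (chkS_all hk)) (fun i hi => of_chkL hck hi)
      (DistribSMul.toAddMonoidHom V (xg k)) (fun i hi => fv_xg hv hk hi)
  refine isSolvable_mono ?_ hs
  rw [closure_le]
  rintro x (rfl | rfl)
  · exact MulAction.mem_stabilizer_iff.2 (key l hl hcl)
  · exact MulAction.mem_stabilizer_iff.2 (key k hk hck)

theorem ns0 : ¬ Group.IsSolvable (closure ({xg 2, xg 0} : Set A9)) :=
  not_isSolvable_triangle (p := 2) (q := 5) (r := 3) (by decide +kernel) (by decide +kernel) (by decide +kernel) (by norm_num)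
    (by norm_num) (by norm_num) (Or.inl (by decide +kernel))

theorem ns1 : ¬ Group.IsSolvable (closure ({xg 3, xg 0} : Set A9)) :=
  not_isSolvable_triangle (p := 2) (q := 5) (r := 3) (by decide +kernel) (by decide +kernel) (by decide +kernel) (by norm_num)
    (by norm_num) (by norm_num) (Or.inl (by decide +kernel))

theorem ns2 : ¬ Group.IsSolvable (closure ({xg 4, xg 1} : Set A9)) :=
  not_isSolvable_triangle (p := 2) (q := 7) (r := 3) (by decide +kernel) (by decide +kernel) (by decide +kernel) (by norm_num)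
    (by norm_num) (by norm_num) (Or.inl (by decide +kernel))

theorem ns3 : ¬ Group.IsSolvable (closure ({xg 5, xg 1} : Set A9)) :=
  not_isSolvable_triangle (p := 2) (q := 7) (r := 3) (by decide +kernel) (by decide +kernel) (by decide +kernel) (by norm_num)
    (by norm_num) (by norm_num) (Or.inl (by decide +kernel))

theorem ns4 : ¬ Group.IsSolvable (closure ({xg 6, xg 1} : Set A9)) :=
  not_isSolvable_triangle (p := 2) (q := 7) (r := 3) (by decide +kernel) (by decide +kernel) (by decide +kernel) (by norm_num)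
    (by norm_num) (by norm_num) (Or.inl (by decide +kernel))

theorem ns5 : ¬ Group.IsSolvable (closure ({xg 7, xg 1} : Set A9)) :=
  not_isSolvable_triangle (p := 2) (q := 7) (r := 3) (by decide +kernel) (by decide +kernel) (by decide +kernel) (by norm_num)
    (by norm_num) (by norm_num) (Or.inl (by decide +kernel))

theorem F_lb_zero (h2 : ∀ v : V, v + v = 0) {v₀ : V} (hv : ∀ t ∈ T, t • v₀ = v₀)
    (hz : ∀ v : V, ¬ Group.IsSolvable (MulAction.stabilizer A9 v) → v = 0) (c sel : ℕ) :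
    F (fv v₀) (mk 2835 (lb c) sel) = 0 := by
  rcases c with _ | _ | _ | _ | _ | c
  · exact F_mk_zero h2 hv (k := 0) (l := 2) (by norm_num) (by norm_num) hL0_0 hL0_2 ns0 hz
  · exact F_mk_zero h2 hv (k := 0) (l := 3) (by norm_num) (by norm_num) hL1_0 hL1_3 ns1 hz
  · exact F_mk_zero h2 hv (k := 1) (l := 4) (by norm_num) (by norm_num) hL2_1 hL2_4 ns2 hz
  · exact F_mk_zero h2 hv (k := 1) (l := 5) (by norm_num) (by norm_num) hL3_1 hL3_5 ns3 hz
  · exact F_mk_zero h2 hv (k := 1) (l := 6) (by norm_num) (by norm_num) hL4_1 hL4_6 ns4 hz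
  · exact F_mk_zero (c := 5) h2 hv (k := 1) (l := 7) (by norm_num) (by norm_num) hL5_1 hL5_7 ns5 hz

theorem F_step_zero (h2 : ∀ v : V, v + v = 0) {v₀ : V} (hv : ∀ t ∈ T, t • v₀ = v₀)
    (hz : ∀ v : V, ¬ Group.IsSolvable (MulAction.stabilizer A9 v) → v = 0) (s : ℕ × ℕ) {M : ℕ}
    (hM : F (fv v₀) M = 0) : F (fv v₀) (step M s) = 0 := by
  rw [step]
  cases h : Nat.blt s.1 8 with
  | true =>
    have h1 : s.1 < 8 := by simpa [Nat.blt] using h
    exact F_pm_zero h2 hv h1 hM
  | false =>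
    rw [cond_false, F_xor h2, hM, F_lb_zero h2 hv hz, add_zero]

theorem F_run_zero (h2 : ∀ v : V, v + v = 0) {v₀ : V} (hv : ∀ t ∈ T, t • v₀ = v₀)
    (hz : ∀ v : V, ¬ Group.IsSolvable (MulAction.stabilizer A9 v) → v = 0) (l : List (ℕ × ℕ)) {M : ℕ}
    (hM : F (fv v₀) M = 0) : F (fv v₀) (run l M) = 0 := by
  induction l generalizing M with
  | nil => exact hM
  | cons s l ih => exact ih (F_step_zero h2 hv hz s hM)

theorem F_run_zero' (h2 : ∀ v : V, v + v = 0) {v₀ : V} (hv : ∀ t ∈ T, t • v₀ = v₀)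
    (hz : ∀ v : V, ¬ Group.IsSolvable (MulAction.stabilizer A9 v) → v = 0) {l : List (ℕ × ℕ)} {M M' : ℕ}
    (h : Nat.beq (run l M) M' = true) (hM : F (fv v₀) M = 0) : F (fv v₀) M' = 0 := by
  rw [← Nat.eq_of_beq_eq_true h]
  exact F_run_zero h2 hv hz l hM

theorem v_zero (h2 : ∀ v : V, v + v = 0) {v₀ : V} (hv : ∀ t ∈ T, t • v₀ = v₀)
    (hz : ∀ v : V, ¬ Group.IsSolvable (MulAction.stabilizer A9 v) → v = 0) : v₀ = 0 := by
  have g0 : F (fv v₀) 0 = 0 := F_zero _
  have g1 := F_run_zero' h2 hv hz run0 g0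
  have g2 := F_run_zero' h2 hv hz run1 g1
  have g3 := F_run_zero' h2 hv hz run2 g2
  have g4 := F_run_zero' h2 hv hz run3 g3
  have g5 := F_run_zero' h2 hv hz run4 g4
  have g6 := F_run_zero' h2 hv hz run5 g5
  have g7 := F_run_zero' h2 hv hz run6 g6
  have g8 := F_run_zero' h2 hv hz run7 g7
  have g9 := F_run_zero' h2 hv hz run8 g8
  have g10 := F_run_zero' h2 hv hz run9 g9
  have g11 := F_run_zero' h2 hv hz run10 g10
  have g12 := F_run_zero' h2 hv hz run11 g11
  have g13 := F_run_zero' h2 hv hz run12 g12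
  have g14 := F_run_zero' h2 hv hz run13 g13
  have g15 := F_run_zero' h2 hv hz run14 g14
  have g16 := F_run_zero' h2 hv hz run15 g15
  have g17 := F_run_zero' h2 hv hz run16 g16
  have g18 := F_run_zero' h2 hv hz run17 g17
  have g19 := F_run_zero' h2 hv hz run18 g18
  have g20 := F_run_zero' h2 hv hz run19 g19
  have g21 := F_run_zero' h2 hv hz run20 g20
  have g22 := F_run_zero' h2 hv hz run21 g21
  have g23 := F_run_zero' h2 hv hz run22 g22
  have g24 := F_run_zero' h2 hv hz run23 g23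
  have g25 := F_run_zero' h2 hv hz run24 g24
  have g26 := F_run_zero' h2 hv hz run25 g25
  have g27 := F_run_zero' h2 hv hz run26 g26
  have g28 := F_run_zero' h2 hv hz run27 g27
  have g29 := F_run_zero' h2 hv hz run28 g28
  rw [F_eq (fv v₀) (n := 2835) (by norm_num) (fun i hi => fv_zero' v₀ hi), Finset.sum_eq_single 0] at g29
  · rw [if_pos (by decide), fv, if_pos (by norm_num)] at g29
    have h1 : rp 0 = 1 := cd_injective ((cd_rp (by norm_num)).trans cd_one')
    rwa [h1, one_smul] at g29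
  · intro i _ hi
    rw [if_neg]
    have h1 : (1 : ℕ) = 2 ^ 0 := rfl
    rw [h1, Nat.testBit_two_pow]
    simp [Ne.symm hi]
  · intro h
    simp at h

/-- **A nonzero `F₂A₉`-module has a nonzero vector with nonsolvable stabilizer.** -/
theorem two [Finite V] [Nontrivial V] (h2 : ∀ v : V, v + v = 0) :
    ∃ v : V, v ≠ 0 ∧ ¬ Group.IsSolvable (MulAction.stabilizer (alternatingGroup (Fin 9)) v) := by
  by_contra hc
  push Not at hc
  have hz : ∀ v : V, ¬ Group.IsSolvable (MulAction.stabilizer A9 v) → v = 0 := by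
    intro v hv
    by_contra h
    exact hv (hc v h)
  have hp : Fact (Nat.Prime 2) := ⟨Nat.prime_two⟩
  obtain ⟨w, hw⟩ := exists_ne (0 : V)
  have hcard : 2 ∣ Nat.card V := by
    have h1 : addOrderOf w = 2 := addOrderOf_eq_prime (by rw [two_nsmul, h2]) hw
    rw [← h1]
    exact addOrderOf_dvd_natCard w
  obtain ⟨v₀, hv₀, hne⟩ := isPGroup_T.exists_fixed_point_of_prime_dvd_card_of_fixed_point V hcard (a := 0)
    (fun t => smul_zero t)
  exact hne (v_zero h2 (fun t ht => hv₀ ⟨t, ht⟩) hz).symm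

end Module

end Cfsg.Agent.H517.AltMod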